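import Cfsg.Agent.H568.FldExc
import Cfsg.Agent.H378.RegFin
import Cfsg.Agent.H610.ChevRegular
import Cfsg.Agent.H70.OutE
import Cfsg.Agent.S1028

/-!
# Automorphisms of E7(q) (helper137)

* `aut_form_E7` : `emb (a y) = N φ_j(emb y) N⁻¹` with `N` fixed by the Frobenius map, `j < e`;
* `j_eq_zero` : `j = 0` if `a` fixes an element of prime order `ℓ`, `18 e` dividing the order of `r` modulo `ℓ`;
* `pow_eq_one_of_comm` : an element commuting with a regular unipotent element has order a power of `r`.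
-/

set_option autoImplicit false
set_option linter.unusedSectionVars false

namespace Cfsg.Agent.H137.TC7

open CoxeterSystem Cfsg Cfsg.Lie Cfsg.Lie.ChevalleyDatum
open Cfsg.Agent.ChevalleyStructure Cfsg.Agent.ChevalleyStructure.Elts Cfsg.Agent.ChevalleyStructure.CoxeterGeom
  Cfsg.Agent.ChevalleyStructure.CoxeterGeomTypes Cfsg.Agent.ChevalleyStructure.NPerm
open Cfsg.Agent.Tits.Roots Cfsg.Agent.Tits.Core Cfsg.Agent.Nodes Cfsg.Agent.Nodes.Reps Cfsg.Agent.Nodes.BNOf
  Cfsg.Agent.Nodes.RGDChev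
open Cfsg.Agent.KFacts.RgdChevCoord Cfsg.Agent.GpExc.Field Cfsg.Agent.BpExc.Fr Cfsg.Agent.BpExc.LangFr
  Cfsg.Agent.BpExc.TowChev Cfsg.Agent.BpExc Cfsg.Agent.BpExc.RowsUntw
open Cfsg.Agent.H129.TorusChar Cfsg.Agent.H129.TorusMain Cfsg.Agent.H129.TorusUntw
open Cfsg.Agent.H70.ChevFix Cfsg.Agent.H70.ChevField Cfsg.Agent.H70.OutCount
open Cfsg.Agent.H719.AutForm Cfsg.Agent.H568.FldExc Cfsg.Agent.ChevalleyStructure.RootVec
  Cfsg.Agent.H610.ChevRegular

section

variable {F : Type} [Field F] [Fintype F] {k : Type} [Field k] [IsAlgClosed k] (f : F →+* k) {r e : ℕ}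
  [Fact r.Prime] [CharP k r] [CharP F r]

theorem perm_one {π : Equiv.Perm (Fin chevE7.rank)} {φ : MulAut ↥(chevE7.group F)} (h : Perm chevE7 F φ π) : π = 1 :=
  H79.DiagSymm.eq_one_E7 (H70.DiagSym.isDiagramSymmetry H70.OutE.inList_E7 h)

/-- **The form of an automorphism.** -/
theorem aut_form_E7 (he : 0 < e) (hq : Fintype.card F = r ^ e) (a : MulAut ↥(chevE7.group F)) :
    ∃ (N : ↥(chevE7.group k)) (j : ℕ), j < e ∧ phi chevE7 k r e N = N ∧
      ∀ y : ↥(chevE7.group F), emb e7T.inList f (a y) = N * phi chevE7 k r j (emb e7T.inList f y) * N⁻¹ := by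
  obtain ⟨x, π, -, -, h1, h2⟩ := exists_conj_perm (F := F) e7T.inList a
  have hP : Perm chevE7 F (MulAut.conj x * a) π := ⟨h1, h2⟩
  have hπ := perm_one hP
  subst hπ
  obtain ⟨c, τ, hv⟩ := exists_val e7T.inList hP
  obtain ⟨j, hj⟩ := exists_frob (p := r) τ
  obtain ⟨T, hT, hT1, hT2⟩ := form_of_val e7T CoxeterMatrix.E₇.toCoxeterSystem f hq invC_E7 two_ne_zero hv hj
  refine ⟨emb e7T.inList f x⁻¹ * T, j % e, Nat.mod_lt _ he, ?_, fun y => ?_⟩
  · rw [map_mul, phi_emb e7T f hq, hT1]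
  · have h3 : phi chevE7 k r (j % e) (emb e7T.inList f y) = phi chevE7 k r j (emb e7T.inList f y) := by
      conv_rhs => rw [← Nat.mod_add_div j e, phi_add e7T, mul_comm e, phi_mul_fix e7T (phi_emb e7T f hq y)]
    have h4 : a y = x⁻¹ * ((MulAut.conj x * a) y) * x := by
      rw [MulAut.mul_apply, MulAut.conj_apply]; group
    rw [h3, h4, map_mul, map_mul, hT2, map_inv]
    group

/-- **Field automorphisms fix only elements of small order.** -/
theorem j_eq_zero {ℓ : ℕ} (hℓ : ℓ.Prime) (hℓr : ℓ ≠ r) (hℓ2 : ℓ ≠ 2) (hord : ∀ m, ℓ ∣ r ^ m - 1 → 18 * e ∣ m)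
    {Y N : ↥(chevE7.group k)} (hY : Y ^ ℓ = 1) (hY1 : Y ≠ 1) {j : ℕ} (hj : j < e)
    (h : N * phi chevE7 k r j Y * N⁻¹ = Y) : j = 0 := by
  by_contra hj0
  have hj0' : 0 < j := Nat.pos_of_ne_zero hj0
  obtain ⟨z, hz⟩ := lang_all e7T CoxeterMatrix.E₇.toCoxeterSystem hj0' (isFrob_phi (D := chevE7) (k := k) (p := r) (e := j))
    (fr_phi (k := k) (p := r) (e := j) e7T CoxeterMatrix.E₇.toCoxeterSystem) 1 N
  rw [map_one, one_mul] at hz
  have hfix : phi chevE7 k r j (z * Y * z⁻¹) = z * Y * z⁻¹ := by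
    have h4 : phi chevE7 k r j Y = N⁻¹ * Y * N := by
      conv_rhs => rw [← h]
      group
    have h5 : phi chevE7 k r j z = z * N := by rw [hz, mul_inv_cancel_left]
    rw [map_mul, map_mul, map_inv, h5, h4]
    group
  have hYn : (z * Y * z⁻¹) ^ ℓ = 1 := by rw [conj_pow, hY, mul_one, mul_inv_cancel]
  let _ : Algebra (ZMod r) k := ZMod.algebra k r
  have hfin : Fintype (GaloisField r j) := Fintype.ofFinite _
  have hcard : Fintype.card (GaloisField r j) = r ^ j := by
    rw [← Nat.card_eq_fintype_card, GaloisField.card r j hj0]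
  let g : GaloisField r j →+* k := (IsAlgClosed.lift : GaloisField r j →ₐ[ZMod r] k).toRingHom
  obtain ⟨y₀, hy₀⟩ := mem_range_of_fix e7T g hcard invC_E7 two_ne_zero hfix hYn
    ((Nat.coprime_primes hℓ Nat.prime_two).2 hℓ2)
  have hy0 : orderOf y₀ = ℓ := by
    have h6 := orderOf_injective _ (emb_injective e7T.inList g) y₀
    rw [← h6, hy₀]
    have := Fact.mk hℓ
    refine orderOf_eq_prime hYn ?_
    intro h1
    apply hY1
    have : Y = z⁻¹ * (z * Y * z⁻¹) * z := by group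
    rw [this, h1]; group
  obtain ⟨m, hm⟩ := ordF_E7 (GaloisField r j)
  have h3 : ℓ ∣ Nat.card ↥(chevE7.group (GaloisField r j)) := hy0 ▸ orderOf_dvd_natCard y₀
  have h2 := h3.trans hm
  have hr : r.Prime := Fact.out
  rcases (hℓ.dvd_mul).1 h2 with h3 | h3
  · have h4 := hℓ.dvd_of_dvd_pow h3
    rw [hcard] at h4
    exact hℓr ((Nat.prime_dvd_prime_iff_eq hℓ hr).1 (hℓ.dvd_of_dvd_pow h4))
  · obtain ⟨x, hx, hnx⟩ := (Prime.dvd_prod_iff hℓ.prime).1 h3
    rw [List.mem_map] at hx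
    obtain ⟨m, hm, rfl⟩ := hx
    rw [hcard, ← pow_mul] at hnx
    have h4 := hord _ hnx
    have hm18 : 0 < m ∧ m ≤ 18 := by
      simp only [List.mem_cons, List.not_mem_nil, or_false] at hm
      omega
    have h5 := Nat.le_of_dvd (Nat.mul_pos hj0' hm18.1) h4
    have h6 : j * m ≤ j * 18 := Nat.mul_le_mul_left j hm18.2
    omega

end

/-! ### regular unipotent elements -/

section Reg

variable {k : Type} [Field k] {r : ℕ} [Fact r.Prime] [CharP k r]

theorem pow_of_unip {g : GL chevE7.Idx k} (hg : g ∈ chevE7.posUnipotent k) : ∃ n : ℕ, g ^ r ^ n = 1 := by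
  have h1 := S1028.result (F := k) chevE7 (by simp) g hg
  obtain ⟨n, hn⟩ : ∃ n : ℕ, chevE7.rank + chevE7.nroots ≤ r ^ n := by
    refine ⟨chevE7.rank + chevE7.nroots, ?_⟩
    exact (Nat.lt_pow_self (Fact.out : r.Prime).one_lt).le
  refine ⟨n, ?_⟩
  apply Units.ext
  rw [Units.val_pow_eq_pow_val, Units.val_one]
  have : Nonempty chevE7.Idx := ⟨Sum.inl ⟨0, by decide⟩⟩
  have : CharP (Matrix chevE7.Idx chevE7.Idx k) r := inferInstance
  have h2 : ((g : Matrix chevE7.Idx chevE7.Idx k) - 1) ^ r ^ n = (g : Matrix chevE7.Idx chevE7.Idx k) ^ r ^ n - 1 ^ r ^ n :=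
    sub_pow_char_pow_of_commute r n (Commute.one_right _)
  rw [pow_eq_zero_of_le hn h1, one_pow] at h2
  exact (sub_eq_zero.1 h2.symm)

/-- the regular unipotent element -/
noncomputable def ru (K : Type) [Field K] : GL chevE7.Idx K :=
  xG e7T.inList (chevE7.simple 0) 1 * xG e7T.inList (chevE7.simple 1) 1 * xG e7T.inList (chevE7.simple 2) 1 *
  xG e7T.inList (chevE7.simple 3) 1 * xG e7T.inList (chevE7.simple 4) 1 * xG e7T.inList (chevE7.simple 5) 1 *
  xG e7T.inList (chevE7.simple 6) 1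

theorem rank_E7 : chevE7.rank = 7 := rfl

theorem reg_ru (K : Type) [Field K] : Reg e7T.inList (ru K) := by
  have hs : ∀ i, i < 7 → xG e7T.inList (chevE7.simple i) (1 : K) ∈ chevE7.posUnipotent K := fun i hi =>
    Subgroup.subset_closure ⟨_, _, simple_pos (checked e7T.inList) hi, rfl⟩
  refine ⟨?_, fun i hi => ⟨1, one_ne_zero, ?_⟩⟩
  · exact mul_mem (mul_mem (mul_mem (mul_mem (mul_mem (mul_mem (hs 0 (by norm_num)) (hs 1 (by norm_num)))
      (hs 2 (by norm_num))) (hs 3 (by norm_num))) (hs 4 (by norm_num))) (hs 5 (by norm_num))) (hs 6 (by norm_num))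
  · have hi7 : i < 7 := hi
    have hc : ∀ j, j < 7 → Comp e7T.inList i (xG e7T.inList (chevE7.simple j) (1 : K)) (if j = i then 1 else 0) := by
      intro j hj
      split_ifs with h
      · subst h
        exact comp_simple e7T.inList j 1
      · exact comp_simple_ne e7T.inList hi hj h 1
    have key := comp_mul e7T.inList hi (comp_mul e7T.inList hi (comp_mul e7T.inList hi (comp_mul e7T.inList hi
      (comp_mul e7T.inList hi (comp_mul e7T.inList hi (hc 0 (by norm_num)) (hc 1 (by norm_num)))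
      (hc 2 (by norm_num))) (hc 3 (by norm_num))) (hc 4 (by norm_num))) (hc 5 (by norm_num))) (hc 6 (by norm_num))
    have e : ((((((if 0 = i then (1 : K) else 0) + if 1 = i then 1 else 0) + if 2 = i then 1 else 0) +
      if 3 = i then 1 else 0) + if 4 = i then 1 else 0) + if 5 = i then 1 else 0) + (if 6 = i then 1 else 0) = 1 := by
      interval_cases i <;> norm_num
    rw [e] at key
    exact key

theorem ru_mem (K : Type) [Field K] : ru K ∈ chevE7.group K := posUnipotent_le_group e7T.inList K (reg_ru K).1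

theorem emb_ru {F : Type} [Field F] (f : F →+* k) :
    ((emb e7T.inList f ⟨ru F, ru_mem F⟩ : ↥(chevE7.group k)) : GL chevE7.Idx k) = ru k := by
  rw [coe_emb]
  show glMap chevE7 f (ru F) = ru k
  rw [ru, ru, map_mul, map_mul, map_mul, map_mul, map_mul, map_mul, glMap_xG, glMap_xG, glMap_xG, glMap_xG, glMap_xG,
    glMap_xG, glMap_xG, map_one]

/-- **An element commuting with the regular unipotent element has order a power of `r`.** -/
theorem pow_eq_one_of_comm {F : Type} [Field F] (f : F →+* k) {N : ↥(chevE7.group k)}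
    (h : N * emb e7T.inList f ⟨ru F, ru_mem F⟩ = emb e7T.inList f ⟨ru F, ru_mem F⟩ * N) : ∃ n : ℕ, N ^ r ^ n = 1 := by
  have h1 : (N : GL chevE7.Idx k) ∈ chevE7.posUnipotent k := by
    refine mem_posUnipotent_of_comm e7T.inList (reg_ru k) N.2 ?_
    rw [← emb_ru f]
    exact congrArg Subtype.val h
  obtain ⟨n, hn⟩ := pow_of_unip (r := r) h1
  exact ⟨n, Subtype.ext hn⟩

end Reg

end Cfsg.Agent.H137.TC7
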