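import Mathlib

/-!
# Four types of class sizes (E7(q), q ≥ 4), for S3582 (helper137)

`M = |L|`, `L = E7(q)`, `p ∣ q`; for `i = 0, 1, 2, 3` (tori `Φ₇, Φ₉, Φ₁₄, Φ₁₈`) `m i` is the product of the full
`r`-parts of `M` over the primes `r` modulo which `q` has order `7, 9, 14, 18`, and `t i` the order of the torus.
`Types G p M m t` is a statement on the class sizes of `G` only; it holds for `L`, hence for every `G` with `Z(G) = 1`
and the class sizes of `L`.
-/

set_option autoImplicit false

namespace Cfsg.Agent.H137.TC7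

open Subgroup

universe u v

/-- the class size -/
noncomputable abbrev cs {G : Type*} [Group G] (g : G) : ℕ := (centralizer ({g} : Set G)).index

/-- The numbers. -/
structure Nums (p M : ℕ) (m t : Fin 4 → ℕ) : Prop where
  prime : p.Prime
  pos : 0 < M
  one_lt : ∀ i, 1 < m i
  coprime : ∀ i j, i ≠ j → (m i).Coprime (m j)
  coprime_p : ∀ i, (m i).Coprime p
  dvd_t : ∀ i, m i ∣ t i
  t_dvd : ∀ i, t i ∣ M
  /-- `m i` contains the full part of `M` for its primes -/
  full : ∀ i, (m i).Coprime (M / m i)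
  /-- `gcd(|T₇|, |T₁₄|) = 1` -/
  t_coprime : (t 0).Coprime (t 2)
  /-- the `r`-parts, `r ≠ p`, are smaller than the product of three of the `m i` -/
  big3 : ∀ r : ℕ, r.Prime → r ≠ p → ∀ i, 2 * ordProj[r] M * m i < m 0 * m 1 * m 2 * m 3
  big2 : ∀ i j, i ≠ j → 200 * Nat.log 2 M < m i * m j

/-- The class sizes. -/
structure Types (G : Type*) [Group G] (p M : ℕ) (m t : Fin 4 → ℕ) : Prop extends Nums p M m t where
  dvd : ∀ g : G, cs g ∣ M
  typ : ∀ g : G, g ≠ 1 → ∀ i, m i ∣ cs g ∨ (m i).Coprime (cs g)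
  one_type : ∀ g : G, g ≠ 1 → ∀ i j, (m i).Coprime (cs g) → (m j).Coprime (cs g) → i = j
  tor : ∀ g : G, g ≠ 1 → ∀ i, (m i).Coprime (cs g) → cs g * t i ∣ M
  ex : ∀ i, ∃ g : G, g ≠ 1 ∧ cs g * t i = M

variable {p M : ℕ} {m t : Fin 4 → ℕ}

theorem cs_eq_one_iff {G : Type*} [Group G] (hZ : center G = ⊥) {g : G} : cs g = 1 ↔ g = 1 := by
  constructor
  · intro h
    rw [index_eq_one] at h
    have h4 : g ∈ center G := by
      rw [mem_center_iff]
      intro x
      have : x ∈ centralizer ({g} : Set G) := h ▸ mem_top x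
      exact mem_centralizer_singleton_iff.1 this
    rwa [hZ, mem_bot] at h4
  · rintro rfl
    rw [cs, index_eq_one, eq_top_iff]
    intro x _
    rw [mem_centralizer_singleton_iff]
    simp

/-- **Transfer**: the types depend only on the set of class sizes. -/
theorem Types.transfer {L : Type u} [Group L] {G : Type v} [Group G] (hL : Types L p M m t) (hZL : center L = ⊥)
    (hZ : center G = ⊥) (h : Set.range (fun g : G => (centralizer ({g} : Set G)).index) =
      Set.range (fun g : L => (centralizer ({g} : Set L)).index)) : Types G p M m t := by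
  have key : ∀ g : G, g ≠ 1 → ∃ l : L, l ≠ 1 ∧ cs l = cs g := by
    intro g hg
    have h1 : cs g ∈ Set.range (fun g : L => (centralizer ({g} : Set L)).index) := by
      rw [← h]; exact ⟨g, rfl⟩
    obtain ⟨l, hl⟩ := h1
    refine ⟨l, ?_, hl⟩
    rintro rfl
    exact hg ((cs_eq_one_iff hZ).1 (by rw [← hl]; exact (cs_eq_one_iff hZL).2 rfl))
  refine { hL.toNums with dvd := ?_, typ := ?_, one_type := ?_, tor := ?_, ex := ?_ }
  · intro g
    by_cases hg : g = 1
    · rw [(cs_eq_one_iff hZ).2 hg]; exact one_dvd _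
    · obtain ⟨l, -, hl⟩ := key g hg
      rw [← hl]; exact hL.dvd l
  · intro g hg i
    obtain ⟨l, hl1, hl⟩ := key g hg
    rw [← hl]; exact hL.typ l hl1 i
  · intro g hg i j
    obtain ⟨l, hl1, hl⟩ := key g hg
    rw [← hl]; exact hL.one_type l hl1 i j
  · intro g hg i
    obtain ⟨l, hl1, hl⟩ := key g hg
    rw [← hl]; exact hL.tor l hl1 i
  · intro i
    obtain ⟨l, hl1, hl⟩ := hL.ex i
    have h1 : cs l ∈ Set.range (fun g : G => (centralizer ({g} : Set G)).index) := by
      rw [h]; exact ⟨l, rfl⟩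
    obtain ⟨g, hg⟩ := h1
    have hg' : cs g = cs l := hg
    refine ⟨g, ?_, by rw [hg', hl]⟩
    rintro rfl
    exact hl1 ((cs_eq_one_iff hZL).1 (by rw [← hg']; exact (cs_eq_one_iff hZ).2 rfl))

end Cfsg.Agent.H137.TC7
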