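import Cfsg.Agent.H137.TC7.NumE7
import Cfsg.Agent.S1064

/-!
# The types of class sizes of E7(q), q ≥ 4 (helper137)
-/

set_option autoImplicit false

namespace Cfsg.Agent.H137.TC7

open Cfsg Cfsg.Lie Cfsg.Agent.H902 Cfsg.Agent.H902.Art

universe u

variable {F : Type u} [Field F] [Fintype F] {p f : ℕ}

theorem card_E7 {q : ℕ} (hF : Fintype.card F = q) :
    Nat.gcd 2 (q - 1) * Nat.card ↥(chevE7.group F) = EN q := by
  rw [S1064.result (F := F) hF, EN]
  ring

theorem real_E7 (hp : p.Prime) (hf : 1 ≤ f) (hF : Fintype.card F = p ^ f) :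
    Real .E7 p f (Nat.card ↥(chevE7.group F)) := by
  refine ⟨hp, hf, trivial, ?_⟩
  change Nat.gcd 2 (p ^ f - 1) * _ = (p ^ f) ^ 63 * (_ * _ * _ * _ * _ * _ * _)
  rw [S1064.result (F := F) hF]
  ring

theorem finite_E7 : Finite ↥(chevE7.group F) := by
  have : Finite (GL chevE7.Idx F) := inferInstance
  infer_instance

/-- **The types of E7(q).** -/
theorem types_E7 (hp : p.Prime) (hf : 1 ≤ f) (hF : Fintype.card F = p ^ f) (h4 : 4 ≤ p ^ f) :
    Types ↥(chevE7.group F) p (Nat.card ↥(chevE7.group F)) (mv (p ^ f)) (tv (p ^ f)) := by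
  have := finite_E7 (F := F)
  have hN := nums_E7 hp hf h4 (card_E7 hF)
  refine Types.of_tori hN rfl (fun i => ?_) (fun i j hij r s hr hs hri hsj x y z hy hz hxy hxz => ?_)
  · obtain ⟨T, h1, h2, h3⟩ := exists_T hF i
    exact ⟨T, h1, h2, fun r hr hri y hyT hy => h3 r hr (od_of_mv (by omega) hr hri) y hyT hy⟩
  · exact one_type_E7 hF hij hr hs (od_of_mv (by omega) hr hri) (od_of_mv (by omega) hs hsj) hy hz hxy hxz

end Cfsg.Agent.H137.TC7
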