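import Cfsg.Agent.H137.TC7.AutE7
import Cfsg.Agent.H137.TC7.TypesE7
import Cfsg.Agent.H816.OutEmb
import Cfsg.Agent.Lib.Zsigmondy

/-!
# A group with the types of E7(q) and normal subgroup E7(q) is E7(q) (helper137)
-/

set_option autoImplicit false
set_option linter.unusedSectionVars false

namespace Cfsg.Agent.H137.TC7

open Subgroup Cfsg Cfsg.Lie Cfsg.Lie.ChevalleyDatum
open Cfsg.Agent.ChevalleyStructure.Elts Cfsg.Agent.GpExc.Field Cfsg.Agent.BpExc.RowsUntw Cfsg.Agent.Nodes.Bruhat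

universe u

section Abs

variable {G : Type u} [Group G] [Finite G]

/-- the order of the product -/
theorem card_sup_mul (C S : Subgroup G) [S.Normal] :
    Nat.card ↥(C ⊔ S) * Nat.card ↥(S ⊓ C : Subgroup G) = Nat.card S * Nat.card C := by
  have h1 : S.relIndex (C ⊔ S) = S.relIndex C := relIndex_sup_right C S
  have h2 : Nat.card S * S.relIndex (C ⊔ S) = Nat.card ↥(C ⊔ S) := by
    rw [← relIndex_bot_left, ← relIndex_bot_left]
    exact relIndex_mul_relIndex ⊥ S (C ⊔ S) bot_le le_sup_right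
  have h3 : Nat.card ↥(S ⊓ C : Subgroup G) * S.relIndex C = Nat.card C := by
    rw [← inf_relIndex_right, ← relIndex_bot_left, ← relIndex_bot_left (H := C)]
    exact relIndex_mul_relIndex ⊥ (S ⊓ C) C bot_le inf_le_right
  rw [← h2, h1, ← h3]; ring

variable (S : Subgroup G) [S.Normal]

/-- **Factorisation**: `|G : C_G(y) S|` -/
theorem factor {p M : ℕ} {m t : Fin 4 → ℕ} (hT : Types G p M m t) (hS : Nat.card S = M) {y : G} (hy1 : y ≠ 1) {i : Fin 4}
    (hy : Nat.card ↥(S ⊓ centralizer ({y} : Set G) : Subgroup G) = t i) {n : ℕ} (hn : S.index ∣ n) (hn0 : 0 < n)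
    (hlt : n < m i) : centralizer ({y} : Set G) ⊔ S = ⊤ := by
  obtain ⟨C, hC⟩ : ∃ C, C = centralizer ({y} : Set G) := ⟨_, rfl⟩
  rw [← hC] at hy ⊢
  have h1 := card_sup_mul C S
  rw [hy, hS] at h1
  have h2 : Nat.card C * cs y = Nat.card G := by rw [hC]; exact card_mul_index _
  have h3 : Nat.card ↥(C ⊔ S) * (C ⊔ S).index = Nat.card G := card_mul_index _
  have hM := hT.pos
  have hC0 : 0 < Nat.card C := Nat.card_pos
  -- `u M = cs t`
  have h4 : M * (C ⊔ S).index = cs y * t i := by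
    have h5 : Nat.card C * (M * (C ⊔ S).index) = Nat.card C * (cs y * t i) := by
      calc Nat.card C * (M * (C ⊔ S).index) = (M * Nat.card C) * (C ⊔ S).index := by ring
        _ = (Nat.card ↥(C ⊔ S) * (C ⊔ S).index) * t i := by rw [← h1]; ring
        _ = _ := by rw [h3, ← h2]; ring
    exact Nat.eq_of_mul_eq_mul_left hC0 h5
  rcases hT.typ y hy1 i with h5 | h5
  · exfalso
    have h6 : m i * m i ∣ M * (C ⊔ S).index := by
      rw [h4]; exact mul_dvd_mul h5 (hT.dvd_t i)
    have hmM : m i ∣ M := (hT.dvd_t i).trans (hT.t_dvd i)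
    have h7 : m i ∣ M / m i * (C ⊔ S).index := by
      have h8 : m i * m i ∣ m i * (M / m i * (C ⊔ S).index) := by
        rw [← mul_assoc, Nat.mul_div_cancel' hmM]; exact h6
      exact Nat.dvd_of_mul_dvd_mul_left (by have := hT.one_lt i; omega) h8
    have h8 : m i ∣ (C ⊔ S).index := (hT.full i).dvd_of_dvd_mul_left h7
    have h9 : (C ⊔ S).index ∣ S.index := index_dvd_of_le le_sup_right
    have h10 := Nat.le_of_dvd hn0 ((h8.trans h9).trans hn)
    omega
  · have h6 := hT.tor y hy1 i h5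
    rw [← h4] at h6
    have h7 := Nat.le_of_dvd hM h6
    have h8 : 0 < (C ⊔ S).index := Nat.pos_of_ne_zero index_ne_zero_of_finite
    have h9 : (C ⊔ S).index = 1 := by
      by_contra hne
      have : M * 2 ≤ M * (C ⊔ S).index := Nat.mul_le_mul_left _ (by omega)
      omega
    exact index_eq_one.1 h9

variable {L : Type*} [Group L] (e : S ≃* L)

/-- the action on `L` -/
noncomputable def act : G →* MulAut L := (MulAut.congr e).toMonoidHom.comp (MulAut.conjNormal (H := S))

theorem act_apply (g : G) (s : S) : act S e g (e s) = e (MulAut.conjNormal g s) := by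
  show e (MulAut.conjNormal g (e.symm (e s))) = _
  rw [e.symm_apply_apply]

theorem act_coe (s : S) : act S e (s : G) = MulAut.conj (e s) := by
  ext x
  obtain ⟨y, rfl⟩ := e.surjective x
  rw [act_apply, MulAut.conj_apply, ← map_inv, ← map_mul, ← map_mul]
  congr 1

theorem act_eq_one (hC : centralizer (S : Set G) = ⊥) {g : G} (h : act S e g = 1) : g = 1 := by
  have h1 : g ∈ centralizer (S : Set G) := by
    rw [mem_centralizer_iff]
    intro s hs
    have h2 := act_apply S e g ⟨s, hs⟩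
    rw [h, MulAut.one_apply] at h2
    have h3 := congrArg Subtype.val (e.injective h2)
    rw [MulAut.conjNormal_apply] at h3
    have h4 : s = g * s * g⁻¹ := h3
    calc s * g = g * s * g⁻¹ * g := by rw [← h4]
      _ = g * s := by group
  rw [hC, mem_bot] at h1
  exact h1

theorem act_inj (hC : centralizer (S : Set G) = ⊥) {g h : G} (hgh : act S e g = act S e h) : g = h := by
  have h1 : act S e (g * h⁻¹) = 1 := by rw [map_mul, map_inv, hgh, mul_inv_cancel]
  exact mul_inv_eq_one.1 (act_eq_one S e hC h1)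

/-- an inner automorphism comes from `S` -/
theorem mem_of_act (hC : centralizer (S : Set G) = ⊥) {g : G} {x : L} (h : act S e g = MulAut.conj x) : g ∈ S := by
  have h1 : act S e ((e.symm x : S) : G) = act S e g := by rw [act_coe, e.apply_symm_apply, h]
  rw [← act_inj S e hC h1]
  exact (e.symm x).2

end Abs

/-! ### E7(q) -/

section Main

variable {F : Type} [Field F] [Fintype F] {p f : ℕ}

/-- the primitive prime -/
theorem exists_ell (hp : p.Prime) (hf : 1 ≤ f) (hq : 4 ≤ p ^ f) :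
    ∃ ℓ : ℕ, ℓ.Prime ∧ (∀ m, ℓ ∣ p ^ m - 1 ↔ 18 * f ∣ m) ∧ ℓ ≠ p ∧ ℓ ≠ 2 ∧ ℓ ∣ mv (p ^ f) 3 ∧
      H378.ExcAdj.od (p ^ f) ℓ = ov 3 := by
  obtain ⟨ℓ, hℓ, h1, h2, h3⟩ := Lib.Zsigmondy.exists_primitive (a := p) (n := 18 * f) hp.two_le (by omega)
    (by omega) (by omega)
  have hod : H378.ExcAdj.od (p ^ f) ℓ = 18 := by
    show orderOf (((p ^ f : ℕ) : ℕ) : ZMod ℓ) = 18
    refine Nat.dvd_antisymm ?_ ?_
    · rw [← Lib.Zsigmondy.dvd_pow_sub_one_iff (Nat.one_le_pow _ _ hp.pos), ← pow_mul, h1]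
      exact ⟨1, by ring⟩
    · have h4 := (Lib.Zsigmondy.dvd_pow_sub_one_iff (a := p ^ f) (r := ℓ) (Nat.one_le_pow _ _ hp.pos) _).2
        (dvd_refl (orderOf (((p ^ f : ℕ) : ℕ) : ZMod ℓ)))
      rw [← pow_mul, h1] at h4
      obtain ⟨c, hc⟩ := h4
      exact ⟨c, by
        have : f * orderOf (((p ^ f : ℕ) : ℕ) : ZMod ℓ) = f * (18 * c) := by rw [hc]; ring
        exact Nat.eq_of_mul_eq_mul_left (by omega) this⟩
  have hℓ1 := hℓ.two_le
  have hle := Nat.le_of_dvd (by omega) h2
  refine ⟨ℓ, hℓ, h1, fun h => h3 (by rw [h]), by omega, ?_, hod⟩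
  have h4 : (ℓ : ℤ) ∣ Ph (p ^ f) 3 := dvd_Ph hℓ (i := 3) hod
  rw [← PN_cast (by omega), ← mv_mul (by omega)] at h4
  have h5 : ℓ ∣ gv (p ^ f) 3 * mv (p ^ f) 3 := Int.natCast_dvd_natCast.1 h4
  rcases hℓ.dvd_mul.1 h5 with h6 | h6
  · exfalso
    have h7 := gv_le (show 1 ≤ p ^ f by omega) 3
    have h8 : 0 < gv (p ^ f) 3 := Nat.gcd_pos_of_pos_left _ (by norm_num)
    have := Nat.le_of_dvd h8 h6
    omega
  · exact h6

/-- `Y^σ / K` has exponent 2 -/
theorem sq_mem {K : Type} [Field K] [IsAlgClosed K] [Fact p.Prime] [CharP K p] (k : F →+* K)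
    (hq : Fintype.card F = p ^ f) {g : ↥(chevE7.group K)} (hg : H129.TorusUntw.phi chevE7 K p f g = g) :
    g ^ 2 ∈ (emb e7T.inList k).range := by
  obtain ⟨x, t, ht, rfl⟩ := H129.TorusUntw.fix_split e7T k hq hg
  have ht1 : H129.TorusUntw.phi chevE7 K p f t = t := by
    rw [map_mul, H129.TorusUntw.phi_emb e7T k hq] at hg
    exact mul_left_cancel hg
  have ht2 := H129.TorusUntw.fix_pow e7T CoxeterMatrix.E₇.toCoxeterSystem k hq H129.TorusChar.invC_E7 two_ne_zero ht ht1
  refine H522.FldUntw.pow_mem_of_split (N := (emb e7T.inList k).range) ⟨_, rfl⟩ (fun b hb => ?_) ht2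
  exact BpExc.Emb.conj_mem_range e7T.inList (f := k) (φ := iterateFrobenius K p f) (fun t => by
    rw [iterateFrobenius_def, hq]) (σ := H129.TorusUntw.phi chevE7 K p f) (fun y => H129.TorusUntw.coe_phi y) ht1 hb

variable {G : Type u} [Group G] [Finite G] (S : Subgroup G) [S.Normal]

/-- **`G = S`.** -/
theorem eq_top_E7 (e : S ≃* ↥(chevE7.group F)) (hp : p.Prime) (hf : 1 ≤ f) (hF : Fintype.card F = p ^ f) (h4 : 4 ≤ p ^ f)
    (hT : Types G p (Nat.card ↥(chevE7.group F)) (mv (p ^ f)) (tv (p ^ f)))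
    (hC : centralizer (S : Set G) = ⊥) : S = ⊤ := by
  have hfinL : Finite ↥(chevE7.group F) := finite_E7 (F := F)
  have hpf : Fact p.Prime := ⟨hp⟩
  obtain ⟨p', e', hp', hcF, hcK, he', hpe, -⟩ := H129.TorusUntw.exists_closure (F := F) rfl
  have hpp : p' = p := by
    rw [hF] at hpe
    have h1 : p' ∣ p ^ f := by rw [hpe]; exact dvd_pow_self _ he'.ne'
    exact (Nat.prime_dvd_prime_iff_eq hp'.out hp).1 (hp'.out.dvd_of_dvd_pow h1)
  subst hpp
  obtain ⟨k, hk⟩ : ∃ k : F →+* AlgebraicClosure F, k = algebraMap F (AlgebraicClosure F) := ⟨_, rfl⟩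
  have hkinj := emb_injective e7T.inList k
  obtain ⟨M, hM⟩ : ∃ M, M = Nat.card ↥(chevE7.group F) := ⟨_, rfl⟩
  rw [← hM] at hT
  have hSM : Nat.card S = M := by rw [hM]; exact Nat.card_congr e.toEquiv
  -- the element `y`
  obtain ⟨ℓ, hℓ, hℓ1, hℓp, hℓ2, hℓm, hod⟩ := exists_ell hp hf h4
  have := Fact.mk hℓ
  have hℓM : ℓ ∣ Nat.card ↥(chevE7.group F) := by
    rw [← hM]; exact (hℓm.trans (hT.dvd_t 3)).trans (hT.t_dvd 3)
  obtain ⟨y', hy'⟩ := exists_prime_orderOf_dvd_card' ℓ hℓM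
  obtain ⟨y, hy⟩ : ∃ y : G, y = ((e.symm y' : S) : G) := ⟨_, rfl⟩
  have hy'1 : y' ≠ 1 := by
    rintro rfl
    rw [orderOf_one] at hy'
    exact hℓ.one_lt.ne hy'
  have hy1 : y ≠ 1 := by
    intro h
    rw [hy] at h
    exact hy'1 (e.symm.map_eq_one_iff.1 (Subtype.ext h))
  -- the centraliser in `S`
  have hcen : Nat.card ↥(S ⊓ centralizer ({y} : Set G) : Subgroup G) = tv (p' ^ f) 3 := by
    obtain ⟨T, t1, t2, t3⟩ := exists_T hF 3
    have hc := (cent_of_torus t1 hℓ (t2 ▸ hℓm.trans (hT.dvd_t 3)) (fun z hz hzr => t3 ℓ hℓ hod z hz hzr) hy').1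
    rw [← t2, ← hc]
    refine Nat.card_congr ⟨fun z => ⟨e ⟨z.1, z.2.1⟩, ?_⟩, fun z => ⟨((e.symm z.1 : S) : G), ⟨(e.symm z.1).2, ?_⟩⟩,
      fun z => ?_, fun z => ?_⟩
    · rw [mem_centralizer_singleton_iff]
      have h1 := mem_centralizer_singleton_iff.1 z.2.2
      have h2 : (⟨z.1, z.2.1⟩ : S) * e.symm y' = e.symm y' * ⟨z.1, z.2.1⟩ := Subtype.ext (by
        show z.1 * ((e.symm y' : S) : G) = ((e.symm y' : S) : G) * z.1
        rw [← hy]; exact h1)
      have h3 := congrArg e h2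
      rw [map_mul, map_mul, e.apply_symm_apply] at h3
      exact h3
    · show ((e.symm z.1 : S) : G) ∈ centralizer ({y} : Set G)
      rw [mem_centralizer_singleton_iff, hy]
      have h1 := mem_centralizer_singleton_iff.1 z.2
      have h2 := congrArg e.symm h1
      rw [map_mul, map_mul] at h2
      exact congrArg Subtype.val h2
    · exact Subtype.ext (by simp)
    · exact Subtype.ext (by simp)
  -- the index
  have hidx : S.index ∣ Nat.gcd 2 (p' ^ f - 1) * f := by
    have h1 := H816.OutEmb.index_dvd S (by rw [hC]; exact bot_le)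
    obtain ⟨e2⟩ := H816.OutEmb.out_congr e
    rw [Nat.card_congr e2.toEquiv, H70.OutE.card_out_E7 hF] at h1
    exact h1
  have hfac : centralizer ({y} : Set G) ⊔ S = ⊤ := by
    have hg0 : 0 < Nat.gcd 2 (p' ^ f - 1) := Nat.gcd_pos_of_pos_left _ two_pos
    have hg2 : Nat.gcd 2 (p' ^ f - 1) ≤ 2 := Nat.gcd_le_left _ two_pos
    refine factor S hT hSM hy1 hcen hidx (by positivity) ?_
    have h1 := le_mv h4 3
    have h2 : f < p' ^ f := Nat.lt_pow_self hp.one_lt
    have h3 : 4 ^ 5 * p' ^ f ≤ (p' ^ f) ^ 6 := by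
      calc 4 ^ 5 * p' ^ f ≤ (p' ^ f) ^ 5 * p' ^ f := Nat.mul_le_mul_right _ (Nat.pow_le_pow_left h4 5)
        _ = _ := by ring
    have h5 : Nat.gcd 2 (p' ^ f - 1) * f ≤ 2 * f := Nat.mul_le_mul_right _ hg2
    norm_num at h3
    omega
  -- every element of `G` acts as an element of the algebraic group
  have hdec : ∀ g : G, ∃ (c : G) (s : S), g = c * s ∧ c * y = y * c ∧
      ∃ N : ↥(chevE7.group (AlgebraicClosure F)), H129.TorusUntw.phi chevE7 (AlgebraicClosure F) p' f N = N ∧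
      ∀ z : ↥(chevE7.group F), emb e7T.inList k (act S e c z) = N * emb e7T.inList k z * N⁻¹ := by
    intro g
    have hg : g ∈ centralizer ({y} : Set G) ⊔ S := by rw [hfac]; exact mem_top g
    obtain ⟨c, hc, s, hs, rfl⟩ := mem_sup_of_normal_right.1 hg
    have hcy := mem_centralizer_singleton_iff.1 hc
    refine ⟨c, ⟨s, hs⟩, rfl, hcy, ?_⟩
    obtain ⟨N, j, hj, hN, hform⟩ := aut_form_E7 k (by omega : 0 < f) hF (act S e c)
    have hfix : act S e c y' = y' := by
      have h1 := act_apply S e c (e.symm y')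
      rw [e.apply_symm_apply] at h1
      rw [h1]
      have h2 : MulAut.conjNormal c (e.symm y') = e.symm y' := Subtype.ext (by
        rw [MulAut.conjNormal_apply, ← hy, hcy, mul_inv_cancel_right])
      rw [h2, e.apply_symm_apply]
    have hj0 : j = 0 := by
      refine j_eq_zero (e := f) (Y := emb e7T.inList k y') (N := N) hℓ hℓp hℓ2 (fun m hm => (hℓ1 m).1 hm) ?_ ?_ hj ?_
      · rw [← map_pow, ← hy', pow_orderOf_eq_one, map_one]
      · intro h
        exact hy'1 (hkinj (h.trans (map_one _).symm))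
      · rw [← hform, hfix]
    subst hj0
    refine ⟨N, hN, fun z => ?_⟩
    rw [hform]
    congr 2
    have h5 := H568.FldExc.phi_mul_fix e7T (H129.TorusUntw.phi_emb (p := p') e7T k hF z) 0
    rwa [zero_mul] at h5
  -- suppose `S ≠ G`
  by_contra hne
  obtain ⟨g, hg⟩ : ∃ g : G, g ∉ S := by
    by_contra hcon
    push Not at hcon
    exact hne (eq_top_iff.2 fun x _ => hcon x)
  obtain ⟨c, s, hgc, -, N, hN, hform⟩ := hdec g
  have hcS : c ∉ S := fun h => hg (hgc ▸ mul_mem h s.2)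
  -- an automorphism given by an element of the range is inner
  have hinner : ∀ (c : G) (N : ↥(chevE7.group (AlgebraicClosure F))), N ∈ (emb e7T.inList k).range →
      (∀ z : ↥(chevE7.group F), emb e7T.inList k (act S e c z) = N * emb e7T.inList k z * N⁻¹) → c ∈ S := by
    rintro c _ ⟨x, rfl⟩ h
    refine mem_of_act S e hC (x := x) ?_
    ext1 z
    apply hkinj
    rw [h, MulAut.conj_apply, map_mul, map_mul, map_inv]
  rcases Nat.even_or_odd (p' ^ f) with heven | hodd
  · apply hcS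
    refine hinner c N ?_ hform
    refine H129.TorusUntw.fix_range e7T CoxeterMatrix.E₇.toCoxeterSystem k hF H129.TorusChar.invC_E7 two_ne_zero
      (H129.RealT.sq_surj hF heven) hN
  · -- the index is even
    have hcc : c * c ∈ S := by
      refine hinner (c * c) (N ^ 2) ?_ (fun z => ?_)
      · exact sq_mem k hF hN
      · rw [map_mul, MulAut.mul_apply, hform, hform, pow_two]
        group
    have h2S : 2 ∣ S.index := by
      have h1 : orderOf (QuotientGroup.mk' S c) = 2 := by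
        refine orderOf_eq_prime ?_ ?_
        · rw [pow_two, ← map_mul]
          exact (QuotientGroup.eq_one_iff _).2 hcc
        · intro h
          exact hcS ((QuotientGroup.eq_one_iff _).1 h)
      rw [← h1, index_eq_card]
      exact orderOf_dvd_natCard _
    -- the regular unipotent element
    obtain ⟨u, hu⟩ : ∃ u : G, u = ((e.symm ⟨ru F, ru_mem F⟩ : S) : G) := ⟨_, rfl⟩
    have hcsM : cs u ∣ M := hT.dvd u
    have hG : Nat.card S * S.index = Nat.card G := card_mul_index S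
    have h2c : 2 ∣ Nat.card ↥(centralizer ({u} : Set G)) := by
      have h1 : Nat.card ↥(centralizer ({u} : Set G)) * cs u = Nat.card G := card_mul_index _
      obtain ⟨b, hb⟩ := h2S
      obtain ⟨d, hd⟩ := hcsM
      have hcs0 : 0 < cs u := Nat.pos_of_ne_zero index_ne_zero_of_finite
      refine ⟨d * b, Nat.eq_of_mul_eq_mul_right hcs0 ?_⟩
      rw [h1, ← hG, hSM, hb, hd]; ring
    have h2f : Fact (Nat.Prime 2) := ⟨Nat.prime_two⟩
    obtain ⟨⟨v, hv⟩, hv2⟩ := exists_prime_orderOf_dvd_card' 2 h2c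
    rw [Subgroup.orderOf_mk] at hv2
    have hvu := mem_centralizer_singleton_iff.1 hv
    obtain ⟨c₁, s₁, hvc, -, N₁, -, hform₁⟩ := hdec v
    -- `v` acts as `N₂`
    obtain ⟨N₂, hN₂⟩ : ∃ N₂, N₂ = N₁ * emb e7T.inList k (e s₁) := ⟨_, rfl⟩
    have hform₂ : ∀ z : ↥(chevE7.group F), emb e7T.inList k (act S e v z) = N₂ * emb e7T.inList k z * N₂⁻¹ := by
      intro z
      rw [hvc, map_mul, MulAut.mul_apply, hform₁, act_coe, MulAut.conj_apply, map_mul, map_mul, map_inv, hN₂]
      group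
    have hfixu : act S e v ⟨ru F, ru_mem F⟩ = ⟨ru F, ru_mem F⟩ := by
      have h1 := act_apply S e v (e.symm ⟨ru F, ru_mem F⟩)
      rw [e.apply_symm_apply] at h1
      rw [h1]
      have h2 : MulAut.conjNormal v (e.symm ⟨ru F, ru_mem F⟩) = e.symm ⟨ru F, ru_mem F⟩ := Subtype.ext (by
        rw [MulAut.conjNormal_apply, ← hu, hvu, mul_inv_cancel_right])
      rw [h2, e.apply_symm_apply]
    have hcomm : N₂ * emb e7T.inList k ⟨ru F, ru_mem F⟩ = emb e7T.inList k ⟨ru F, ru_mem F⟩ * N₂ := by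
      have h1 := hform₂ ⟨ru F, ru_mem F⟩
      rw [hfixu] at h1
      conv_rhs => rw [h1]
      group
    obtain ⟨n, hn⟩ := pow_eq_one_of_comm (r := p') k hcomm
    have hpow : ∀ (m : ℕ) (z : ↥(chevE7.group F)),
        emb e7T.inList k ((act S e v ^ m) z) = N₂ ^ m * emb e7T.inList k z * (N₂ ^ m)⁻¹ := by
      intro m
      induction m with
      | zero => intro z; rw [pow_zero, pow_zero, MulAut.one_apply, one_mul, inv_one, mul_one]
      | succ m ih =>
        intro z
        rw [pow_succ, MulAut.mul_apply, ih, hform₂, pow_succ]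
        group
    have h1 : act S e v ^ p' ^ n = 1 := by
      ext1 z
      apply hkinj
      rw [hpow, hn, MulAut.one_apply, one_mul, inv_one, mul_one]
    have h2 : act S e v ^ 2 = 1 := by rw [← map_pow, ← hv2, pow_orderOf_eq_one, map_one]
    have hp2 : p' ≠ 2 := by
      rintro rfl
      exact (Nat.not_even_iff_odd.2 hodd) ((Nat.even_pow.2 ⟨even_two, by omega⟩))
    have hcop : Nat.Coprime (p' ^ n) 2 := Nat.Coprime.pow_left _ ((Nat.coprime_primes hp Nat.prime_two).2 hp2)
    have h3 : act S e v = 1 := by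
      rw [← orderOf_eq_one_iff]
      have h4 := Nat.dvd_gcd (orderOf_dvd_of_pow_eq_one h1) (orderOf_dvd_of_pow_eq_one h2)
      rw [hcop] at h4
      exact Nat.dvd_one.1 h4
    have h5 := act_eq_one S e hC h3
    rw [h5, orderOf_one] at hv2
    exact absurd hv2 (by norm_num)

end Main

end Cfsg.Agent.H137.TC7
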