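import Cfsg.Agent.H378.RegE7

/-!
# No character of the root lattice of E7 is fixed up to inversion by elements of types 7 (14) and 9 (18) (helper137)
-/

set_option autoImplicit false
set_option linter.unusedSectionVars false

namespace Cfsg.Agent.H137.TC7

open CoxeterSystem Subgroup Cfsg Cfsg.Lie Cfsg.Lie.ChevalleyDatum
open Cfsg.Agent.ChevalleyStructure Cfsg.Agent.ChevalleyStructure.Elts Cfsg.Agent.ChevalleyStructure.CoxeterGeom
  Cfsg.Agent.ChevalleyStructure.CoxeterGeomTypes Cfsg.Agent.ChevalleyStructure.NPerm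
open Cfsg.Agent.Tits.Roots Cfsg.Agent.Tits.Core Cfsg.Agent.Nodes.Reps Cfsg.Agent.Nodes.BNOf
  Cfsg.Agent.Nodes.RGDChev Cfsg.Agent.Nodes.Bruhat
open Cfsg.Agent.BpExc.RowsUntw Cfsg.Agent.H378.TorDual Cfsg.Agent.H378.TorChar Cfsg.Agent.H378.LatRoot
  Cfsg.Agent.H378.LatCyc Cfsg.Agent.H378.LatCodim Cfsg.Agent.H378.LatPerp Cfsg.Agent.H378.RegE7
  Cfsg.Agent.H378.ExcAdj Cfsg.Agent.H378.ExcNear
open Polynomial

universe u

/-! ### orbits -/

/-- if all periods are divisible by `m` then so is the number of points -/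
theorem dvd_card_of_orb {X : Type*} [Finite X] (π : Equiv.Perm X) {m : ℕ}
    (h : ∀ x, ∀ j : ℕ, (π ^ j) x = x → m ∣ j) : m ∣ Nat.card X := by
  classical
  have : Fintype X := Fintype.ofFinite X
  have e := MulAction.selfEquivSigmaOrbits (↥(Subgroup.zpowers π)) X
  have : Fintype (Quotient (MulAction.orbitRel (↥(Subgroup.zpowers π)) X)) := Fintype.ofFinite _
  rw [Nat.card_congr e, Nat.card_sigma]
  refine Finset.dvd_sum fun ω _ => ?_
  obtain ⟨x, hx⟩ : ∃ x, x = ω.out := ⟨_, rfl⟩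
  rw [← hx]
  have : Fintype (MulAction.orbit (↥(Subgroup.zpowers π)) x) := Fintype.ofFinite _
  have h1 := MulAction.minimalPeriod_eq_card (a := π) (b := x)
  rw [Nat.card_eq_fintype_card, ← h1]
  refine h x _ ?_
  have h2 := Function.isPeriodicPt_minimalPeriod (fun y => π • y) x
  have h3 : ∀ j : ℕ, (fun y => π • y)^[j] x = (π ^ j) x := by
    intro j
    induction j with
    | zero => rfl
    | succ j ih => rw [Function.iterate_succ', Function.comp_apply, ih, pow_succ', Equiv.Perm.mul_apply]; rfl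
  rw [← h3]
  exact h2

section Lat

variable {l : ℕ} {W : Type*} [Group W] [Fintype W] {M : CoxeterMatrix (Fin l)} {cs : CoxeterSystem M W}
  {A : Fin l → Fin l → ℤ} {h : IsCartan M A}

theorem pow_apply_mod {m : ℕ} {w : Module.End ℤ (Fin l → ℤ)} {b : Fin l → ℤ}
    (h : aeval w (cyclotomic m ℤ) b = 0) (j : ℕ) : (w ^ j) b = (w ^ (j % m)) b := by
  have key : ∀ n : ℕ, (w ^ (m * n)) b = b := by
    intro n
    induction n with
    | zero => rfl
    | succ n ih => rw [Nat.mul_succ, pow_add, Module.End.mul_apply, pow_apply_eq h, ih]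
  conv_lhs => rw [← Nat.mod_add_div j m, pow_add, Module.End.mul_apply, key]

/-- no power of `w`, except the trivial ones, fixes a root `a` if `m` does not divide the number of roots orthogonal
to `a` -/
theorem pow_root_ne {w : W} {m : ℕ} (hm : 0 < m) (hl : m.totient + 1 = l) (h2 : 2 ≤ m.totient) {y : Fin l → ℤ}
    (hy : y ≠ 0) (hy' : aeval (rep cs h w) (cyclotomic m ℤ) y = 0) {a : Fin l → ℤ} (ha : IsRoot cs h a)
    (hcard : ¬ m ∣ Nat.card (PerpRoots cs h a)) {j : ℕ} (hj : ¬ m ∣ j) : (rep cs h w ^ j) a ≠ a := by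
  intro h1
  apply hcard
  obtain ⟨T, hT⟩ : ∃ T, T = rep cs h w := ⟨_, rfl⟩
  have hy0 : (T ^ j) y - y ≠ 0 := by
    rw [sub_ne_zero, hT, pow_apply_mod hy']
    refine pow_apply_ne hm hy hy' ?_ (Nat.mod_lt _ hm)
    rcases Nat.eq_zero_or_pos (j % m) with h3 | h3
    · exact absurd (Nat.dvd_of_mod_eq_zero h3) hj
    · exact h3
  refine dvd_card_perp (w := w) hm hl h2 hy0 ?_ ha.ne_zero ?_
  · rw [map_sub, hy', sub_zero, hT]
    have e : (rep cs h w ^ j) = aeval (rep cs h w) (X ^ j : ℤ[X]) := by rw [map_pow, aeval_X]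
    rw [e, ← Module.End.mul_apply, ← map_mul, mul_comm, map_mul, Module.End.mul_apply, hy', map_zero]
  · intro i
    rw [map_sub, form_sub_right, sub_eq_zero, hT, ← Module.End.mul_apply, ← pow_add, add_comm, pow_add,
      Module.End.mul_apply]
    conv_lhs => rw [← h1]
    have e : ∀ z, (rep cs h w ^ j) z = rep cs h (w ^ j) z := fun z => by rw [map_pow]
    rw [e, e, form_rep]

end Lat

section E7

variable {W : Type*} [Group W] [Fintype W] (cs : CoxeterSystem CoxeterMatrix.E₇ W)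

theorem card_perp_root {a : Fin 7 → ℤ} (ha : IsRoot cs e7T.isCartan a) :
    Nat.card (PerpRoots cs e7T.isCartan a) = 60 := by
  obtain ⟨v, i, rfl⟩ := ha
  rw [card_perp_simple, card_perp_E7]

theorem pow_root_ne_E7 {w : W} {m : ℕ} (hm : m = 7 ∨ m = 9 ∨ m = 14 ∨ m = 18) {y : Fin 7 → ℤ}
    (hy : y ≠ 0) (hy' : aeval (rep cs e7T.isCartan w) (cyclotomic m ℤ) y = 0) {a : Fin 7 → ℤ}
    (ha : IsRoot cs e7T.isCartan a) {j : ℕ} (hj : ¬ m ∣ j) : (rep cs e7T.isCartan w ^ j) a ≠ a := by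
  refine pow_root_ne (by omega) ?_ ?_ hy hy' ha ?_ hj
  · rcases hm with rfl | rfl | rfl | rfl <;> decide
  · rcases hm with rfl | rfl | rfl | rfl <;> decide
  · rw [card_perp_root cs ha]
    rcases hm with rfl | rfl | rfl | rfl <;> omega

/-- the roots of `E7` -/
theorem card_roots_E7 : Nat.card {a : Fin 7 → ℤ // IsRoot cs e7T.isCartan a} = 126 := by
  have e : Fin chevE7.nroots ≃ {a : Fin 7 → ℤ // IsRoot cs e7T.isCartan a} := by
    refine Equiv.ofBijective (fun r => ⟨vec chevE7 7 r, isRoot_vec e7T cs r.2⟩) ⟨?_, ?_⟩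
    · intro r s hrs
      exact Fin.ext (vec_inj e7T r.2 s.2 (congrArg Subtype.val hrs))
    · rintro ⟨b, hb⟩
      obtain ⟨r, hr, rfl⟩ := (isRoot_iff e7T cs b).1 hb
      exact ⟨⟨r, hr⟩, rfl⟩
  rw [← Nat.card_congr e, Nat.card_eq_fintype_card, Fintype.card_fin]
  rfl

theorem sum_roots : ∃ r s t : ℕ, r < chevE7.nroots ∧ s < chevE7.nroots ∧ t < chevE7.nroots ∧
    vec chevE7 7 r = sr 0 + sr 2 ∧ vec chevE7 7 s = sr 2 + sr 3 ∧ vec chevE7 7 t = sr 0 + sr 2 + sr 3 := by
  have h1 : ∃ r : Fin chevE7.nroots, vec chevE7 7 r = sr 0 + sr 2 := by decide +kernel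
  have h2 : ∃ r : Fin chevE7.nroots, vec chevE7 7 r = sr 2 + sr 3 := by decide +kernel
  have h3 : ∃ r : Fin chevE7.nroots, vec chevE7 7 r = sr 0 + sr 2 + sr 3 := by decide +kernel
  obtain ⟨r, hr⟩ := h1
  obtain ⟨s, hs⟩ := h2
  obtain ⟨t, ht⟩ := h3
  exact ⟨r, s, t, r.2, s.2, t.2, hr, hs, ht⟩

variable {k : Type u} [Field k]

/-- **No common character.** -/
theorem no_common {χ : Ch 7 k} (hχ : χ ≠ 1) {ε : ℤ} (hε : ε * ε = 1) {w w' : W}
    (hw : ∀ x, χ (Multiplicative.ofAdd (rep cs e7T.isCartan w x)) = χ (Multiplicative.ofAdd x) ^ ε)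
    (hw' : ∀ x, χ (Multiplicative.ofAdd (rep cs e7T.isCartan w' x)) = χ (Multiplicative.ofAdd x) ^ ε)
    {m m' : ℕ} (hm : m = 7 ∨ m = 14) (hm' : m' = 9 ∨ m' = 18) {y y' : Fin 7 → ℤ} (hy : y ≠ 0) (hy' : y' ≠ 0)
    (hya : aeval (rep cs e7T.isCartan w) (cyclotomic m ℤ) y = 0)
    (hya' : aeval (rep cs e7T.isCartan w') (cyclotomic m' ℤ) y' = 0) : False := by
  -- the sets `S λ`
  have hfin : Finite {a : Fin 7 → ℤ // IsRoot cs e7T.isCartan a} := by
    refine Nat.finite_of_card_ne_zero ?_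
    rw [card_roots_E7]; norm_num
  let S : kˣ → Type := fun lam => {a : Fin 7 → ℤ // IsRoot cs e7T.isCartan a ∧
    (χ (Multiplicative.ofAdd a) = lam ∨ χ (Multiplicative.ofAdd a) = lam⁻¹)}
  have hSfin : ∀ lam, Finite (S lam) := fun lam =>
    Finite.of_injective (fun a : S lam => (⟨a.1, a.2.1⟩ : {a : Fin 7 → ℤ // IsRoot cs e7T.isCartan a}))
      fun a b hab => by
        have h1 : a.1 = b.1 := congrArg (fun z : {a : Fin 7 → ℤ // IsRoot cs e7T.isCartan a} => z.1) hab
        exact Subtype.ext h1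
  -- the action of the squares
  have hsq : ∀ v : W, (∀ x, χ (Multiplicative.ofAdd (rep cs e7T.isCartan v x)) = χ (Multiplicative.ofAdd x) ^ ε) →
      ∀ x, χ (Multiplicative.ofAdd (rep cs e7T.isCartan (v ^ 2) x)) = χ (Multiplicative.ofAdd x) := by
    intro v hv x
    rw [pow_two, rep_mul_apply, hv, hv, ← zpow_mul, hε, zpow_one]
  have hact : ∀ (v : W), (∀ x, χ (Multiplicative.ofAdd (rep cs e7T.isCartan v x)) = χ (Multiplicative.ofAdd x)) →
      ∀ (n : ℕ), (∀ a, IsRoot cs e7T.isCartan a → ∀ j : ℕ, (rep cs e7T.isCartan v ^ j) a = a → n ∣ j) →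
      ∀ lam, n ∣ Nat.card (S lam) := by
    intro v hv n hn lam
    have := hSfin lam
    have hvi : ∀ x, χ (Multiplicative.ofAdd (rep cs e7T.isCartan v⁻¹ x)) = χ (Multiplicative.ofAdd x) := by
      intro x
      rw [← hv, rep_apply_inv]
    let π : Equiv.Perm (S lam) :=
      { toFun := fun a => ⟨rep cs e7T.isCartan v a.1, a.2.1.act v, by rw [hv]; exact a.2.2⟩
        invFun := fun a => ⟨rep cs e7T.isCartan v⁻¹ a.1, a.2.1.act v⁻¹, by rw [hvi]; exact a.2.2⟩
        left_inv := fun a => Subtype.ext (rep_inv_apply cs e7T.isCartan v a.1)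
        right_inv := fun a => Subtype.ext (rep_apply_inv cs e7T.isCartan v a.1) }
    have hπ : ∀ (i : ℕ) (b : S lam), ((π ^ i) b).1 = (rep cs e7T.isCartan v ^ i) b.1 := by
      intro i
      induction i with
      | zero => intro b; rfl
      | succ i ih =>
        intro b
        rw [pow_succ, Equiv.Perm.mul_apply, ih, pow_succ, Module.End.mul_apply]
        rfl
    refine dvd_card_of_orb π fun a j hj => hn a.1 a.2.1 j ?_
    rw [← hπ, hj]
  have h7 : ∀ lam, 7 ∣ Nat.card (S lam) := by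
    refine hact (w ^ 2) (hsq w hw) 7 fun a ha j hj => ?_
    rw [map_pow, ← pow_mul] at hj
    by_contra h7
    refine pow_root_ne_E7 cs (by tauto) hy hya ha (j := 2 * j) ?_ hj
    rcases hm with rfl | rfl <;> omega
  have h9 : ∀ lam, 9 ∣ Nat.card (S lam) := by
    refine hact (w' ^ 2) (hsq w' hw') 9 fun a ha j hj => ?_
    rw [map_pow, ← pow_mul] at hj
    by_contra h9
    refine pow_root_ne_E7 cs (by tauto) hy' hya' ha (j := 2 * j) ?_ hj
    rcases hm' with rfl | rfl <;> omega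
  have hneg : ∀ x, χ (Multiplicative.ofAdd (-x)) = (χ (Multiplicative.ofAdd x))⁻¹ := fun x => by
    rw [ofAdd_neg, map_inv]
  have h2 : ∀ lam, 2 ∣ Nat.card (S lam) := by
    intro lam
    have := hSfin lam
    have hm2 : ∀ a : S lam, IsRoot cs e7T.isCartan (-a.1) ∧ (χ (Multiplicative.ofAdd (-a.1)) = lam ∨
        χ (Multiplicative.ofAdd (-a.1)) = lam⁻¹) := by
      intro a
      refine ⟨a.2.1.neg, ?_⟩
      rw [hneg]
      rcases a.2.2 with h | h
      · right; rw [h]
      · left; rw [h, inv_inv]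
    let π : Equiv.Perm (S lam) :=
      { toFun := fun a => ⟨-a.1, hm2 a⟩
        invFun := fun a => ⟨-a.1, hm2 a⟩
        left_inv := fun a => Subtype.ext (neg_neg a.1)
        right_inv := fun a => Subtype.ext (neg_neg a.1) }
    have hπ2 : π ^ 2 = 1 := Equiv.Perm.ext fun a => Subtype.ext (neg_neg a.1)
    refine dvd_card_of_orb π fun a j hj => ?_
    by_contra hodd
    obtain ⟨i, rfl⟩ : ∃ i, j = 2 * i + 1 := ⟨j / 2, by omega⟩
    rw [pow_succ, pow_mul, hπ2, one_pow, one_mul] at hj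
    have h3 : -a.1 = a.1 := congrArg Subtype.val hj
    have h4 : a.1 = 0 := by
      funext i
      have := congrFun h3 i
      rw [Pi.neg_apply] at this
      rw [Pi.zero_apply]; omega
    exact a.2.1.ne_zero h4
  have hall : ∀ a, IsRoot cs e7T.isCartan a → ∀ b, IsRoot cs e7T.isCartan b →
      (χ (Multiplicative.ofAdd b) = χ (Multiplicative.ofAdd a) ∨
        χ (Multiplicative.ofAdd b) = (χ (Multiplicative.ofAdd a))⁻¹) := by
    intro a ha b hb
    by_contra hcon
    obtain ⟨lam, hlam⟩ : ∃ lam, lam = χ (Multiplicative.ofAdd a) := ⟨_, rfl⟩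
    have := hSfin lam
    have hne : Nat.card (S lam) ≠ 0 := by
      have : Nonempty (S lam) := ⟨⟨a, ha, Or.inl hlam.symm⟩⟩
      exact Nat.card_pos.ne'
    have h126 : 126 ∣ Nat.card (S lam) := by
      have h3 := h2 lam
      have h4 := h7 lam
      have h5 := h9 lam
      omega
    have hle := Nat.le_of_dvd (Nat.pos_of_ne_zero hne) h126
    let ι : S lam → {a : Fin 7 → ℤ // IsRoot cs e7T.isCartan a} := fun a => ⟨a.1, a.2.1⟩
    have hι : Function.Injective ι := fun a b hab => by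
      have h1 : a.1 = b.1 := congrArg (fun z : {a : Fin 7 → ℤ // IsRoot cs e7T.isCartan a} => z.1) hab
      exact Subtype.ext h1
    have hbij : Function.Bijective ι := by
      refine hι.bijective_of_nat_card_le ?_
      rw [card_roots_E7]; exact hle
    obtain ⟨c, hc⟩ := hbij.2 ⟨b, hb⟩
    have h3 : c.1 = b := congrArg Subtype.val hc
    apply hcon
    rw [← hlam, ← h3]
    exact c.2.2
  obtain ⟨r, s, t, hr, hs, ht, er, es, et⟩ := sum_roots
  have r0 := isRoot_sr cs e7T.isCartan 0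
  have r2 := isRoot_sr cs e7T.isCartan 2
  have r3 := isRoot_sr cs e7T.isCartan 3
  have r02 : IsRoot cs e7T.isCartan (sr 0 + sr 2) := er ▸ isRoot_vec e7T cs hr
  have r23 : IsRoot cs e7T.isCartan (sr 2 + sr 3) := es ▸ isRoot_vec e7T cs hs
  have r023 : IsRoot cs e7T.isCartan (sr 0 + sr 2 + sr 3) := et ▸ isRoot_vec e7T cs ht
  have hne1 : χ (Multiplicative.ofAdd (sr 0)) ≠ 1 := by
    intro h1
    apply hχ
    refine ext_sr fun i => ?_
    rw [MonoidHom.one_apply]
    rcases hall _ r0 _ (isRoot_sr cs e7T.isCartan i) with h3 | h3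
    · rw [h3, h1]
    · rw [h3, h1, inv_one]
  have a2 := hall _ r0 _ r2
  have a3 := hall _ r0 _ r3
  have a02 := hall _ r0 _ r02
  have a23 := hall _ r0 _ r23
  have a023 := hall _ r0 _ r023
  rw [ofAdd_add, map_mul] at a02 a23 a023
  rw [ofAdd_add, map_mul] at a023
  obtain ⟨u, hu⟩ : ∃ u, u = χ (Multiplicative.ofAdd (sr 0)) := ⟨_, rfl⟩
  obtain ⟨v, hv⟩ : ∃ v, v = χ (Multiplicative.ofAdd (sr 2)) := ⟨_, rfl⟩
  obtain ⟨x, hx⟩ : ∃ x, x = χ (Multiplicative.ofAdd (sr 3)) := ⟨_, rfl⟩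
  rw [← hu] at hne1 a2 a3 a02 a23 a023
  rw [← hv] at a2 a02 a23 a023
  rw [← hx] at a3 a23 a023
  have hone : ∀ z : kˣ, z = 1 → ¬ (z = u ∨ z = u⁻¹) := by
    rintro z rfl (h | h)
    · exact hne1 h.symm
    · exact hne1 (by rw [← inv_inv u, ← h, inv_one])
  have e2 : v = u := by
    rcases a2 with h | h
    · exact h
    · exact absurd a02 (hone _ (by rw [h, mul_inv_cancel]))
  have e3 : x = u := by
    rcases a3 with h | h
    · exact h
    · exact absurd a23 (hone _ (by rw [e2, h, mul_inv_cancel]))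
  rw [e2, e3] at a023
  rw [e2] at a02
  have hu3 : u * u * u = 1 := by
    rcases a02 with h | h
    · exact absurd (mul_left_cancel (h.trans (mul_one u).symm)) hne1
    · rw [h, inv_mul_cancel]
  exact hone _ hu3 a023

end E7

end Cfsg.Agent.H137.TC7
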