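import Mathlib
import Cfsg.Agent.H992.TC.E7s
import Cfsg.Agent.H992.TC.Inst
import Cfsg.Agent.H310.TC7.Main
import Cfsg.Agent.H137.TC7.TypesE7
import Cfsg.Agent.H137.TC7.EqTop

/-!
# Thompson's conjecture for `E₇(q)` (helper137, with helper310 and helper992)
-/

set_option autoImplicit false

namespace Cfsg.Agent.H137.TC7

open Subgroup Cfsg Cfsg.Lie Cfsg.Agent.H992.TC Cfsg.Agent.H902

universe u v

theorem center_E7 {F : Type} [Field F] [Fintype F] : center ↥(chevE7.group F) = ⊥ := by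
  have hs := S1054.result (F := F) chevE7 (by simp)
  have := hs.1
  exact H992.TC.center_bot fun h => hs.2 ⟨⟨h⟩⟩

theorem e7 {L : Type u} [Group L] (hL : IsoE7 L) {G : Type v} [Group G] [Finite G] (hZ : center G = ⊥)
    (hcs : Set.range (fun g : G => (centralizer ({g} : Set G)).index) =
      Set.range (fun g : L => (centralizer ({g} : Set L)).index)) : Nonempty (G ≃* L) := by
  obtain ⟨F, _, _, ⟨e⟩⟩ := hL
  obtain ⟨p, f, hp, hf, hF⟩ := Names.exists_pp F
  by_cases h4 : 4 ≤ p ^ f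
  · have hT : Types G p (Nat.card ↥(chevE7.group F)) (mv (p ^ f)) (tv (p ^ f)) :=
      Types.transfer (types_E7 hp hf hF h4) center_E7 hZ (hcs.trans (cs_congr e))
    obtain ⟨S, hn, ⟨eS⟩, hC⟩ := H310.TC7.main hp hf hF h4 hT (fun X _ _ _ => S0000.result)
    have hS := eq_top_E7 S eS hp hf hF h4 hT hC
    exact ⟨((Subgroup.topEquiv.symm.trans (MulEquiv.subgroupCongr hS.symm)).trans eS).trans e.symm⟩
  · exact e7_small ⟨F, inferInstance, inferInstance, by omega, ⟨e⟩⟩ hZ hcs

end Cfsg.Agent.H137.TC7
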