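import Cfsg.Agent.H137.TC7.OneType
import Cfsg.Agent.H902.Facts

/-!
# The numbers of E7(q), q ≥ 4 (helper137)

* `gv`, `PN`, `mv` : `mv q i = PN q i / gv q i` the product of the full `r`-parts of `|E7(q)|`, `od q r = ov i`;
* `P_le_E7` : the `r`-parts of `|E7(q)|`, `r ∤ q`;
* `nums_E7`.
-/

set_option autoImplicit false
set_option linter.unusedSectionVars false

namespace Cfsg.Agent.H137.TC7

open Cfsg.Agent.H902 Cfsg.Agent.H902.Art Cfsg.Agent.H378.ExcNear Cfsg.Agent.H378.ExcAdj Cfsg.Agent.H378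

/-- the divisor prime to the type -/
def gv (q : ℕ) : Fin 4 → ℕ := ![Nat.gcd 7 (q - 1), Nat.gcd 3 (q - 1), Nat.gcd 7 (q + 1), Nat.gcd 3 (q + 1)]

/-- the values of the cyclotomic polynomials -/
def PN (q : ℕ) : Fin 4 → ℕ := ![1 + q + q ^ 2 + q ^ 3 + q ^ 4 + q ^ 5 + q ^ 6, 1 + q ^ 3 + q ^ 6,
  1 + q ^ 2 + q ^ 4 + q ^ 6 - (q + q ^ 3 + q ^ 5), 1 + q ^ 6 - q ^ 3]

/-- the product of the full parts -/
def mv (q : ℕ) (i : Fin 4) : ℕ := PN q i / gv q i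

theorem PN_cast {q : ℕ} (hq : 1 ≤ q) (i : Fin 4) : (PN q i : ℤ) = Ph q i := by
  have h1 : q ≤ q ^ 2 := Nat.le_self_pow (by norm_num) q
  have h3 : q ^ 3 ≤ q ^ 4 := Nat.pow_le_pow_right hq (by norm_num)
  have h5 : q ^ 5 ≤ q ^ 6 := Nat.pow_le_pow_right hq (by norm_num)
  have h36 : q ^ 3 ≤ q ^ 6 := Nat.pow_le_pow_right hq (by norm_num)
  fin_cases i
  · show ((1 + q + q ^ 2 + q ^ 3 + q ^ 4 + q ^ 5 + q ^ 6 : ℕ) : ℤ) = _
    push_cast; rfl
  · show ((1 + q ^ 3 + q ^ 6 : ℕ) : ℤ) = _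
    push_cast; rfl
  · show ((1 + q ^ 2 + q ^ 4 + q ^ 6 - (q + q ^ 3 + q ^ 5) : ℕ) : ℤ) =
      1 - (q : ℤ) + (q : ℤ) ^ 2 - (q : ℤ) ^ 3 + (q : ℤ) ^ 4 - (q : ℤ) ^ 5 + (q : ℤ) ^ 6
    rw [Nat.cast_sub (by omega)]
    push_cast; ring
  · show ((1 + q ^ 6 - q ^ 3 : ℕ) : ℤ) = 1 - (q : ℤ) ^ 3 + (q : ℤ) ^ 6
    rw [Nat.cast_sub (by omega)]
    push_cast; ring

/-- the primes -/
def n0 : Fin 4 → ℕ := ![7, 3, 7, 3]

theorem n0_prime (i : Fin 4) : (n0 i).Prime := by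
  fin_cases i
  · exact (by norm_num : (7 : ℕ).Prime)
  · exact (by norm_num : (3 : ℕ).Prime)
  · exact (by norm_num : (7 : ℕ).Prime)
  · exact (by norm_num : (3 : ℕ).Prime)

theorem gv_eq {q : ℕ} (hq : 1 ≤ q) (i : Fin 4) : (gv q i = n0 i ∧ (n0 i : ℤ) ∣ (q : ℤ) - sg i) ∨
    (gv q i = 1 ∧ ¬ (n0 i : ℤ) ∣ (q : ℤ) - sg i) := by
  have key : ∀ {n a : ℕ}, n.Prime → (Nat.gcd n a = n ∧ (n : ℤ) ∣ (a : ℤ)) ∨ (Nat.gcd n a = 1 ∧ ¬ (n : ℤ) ∣ (a : ℤ)) := by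
    intro n a hn
    by_cases h : n ∣ a
    · exact Or.inl ⟨Nat.gcd_eq_left h, Int.natCast_dvd_natCast.2 h⟩
    · exact Or.inr ⟨(Nat.Prime.coprime_iff_not_dvd hn).2 h, fun h' => h (Int.natCast_dvd_natCast.1 h')⟩
  have e1 : ((q - 1 : ℕ) : ℤ) = (q : ℤ) - 1 := by push_cast [Nat.cast_sub hq]; ring
  have e2 : ((q + 1 : ℕ) : ℤ) = (q : ℤ) - (-1) := by push_cast; ring
  fin_cases i
  · have := key (a := q - 1) (n0_prime 0); rw [e1] at this; exact this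
  · have := key (a := q - 1) (n0_prime 1); rw [e1] at this; exact this
  · have := key (a := q + 1) (n0_prime 2); rw [e2] at this; exact this
  · have := key (a := q + 1) (n0_prime 3); rw [e2] at this; exact this

/-- `Φ(q) ≡ n0 mod n0²` if `q ≡ ±1 mod n0` -/
theorem Ph_mod {q : ℕ} (i : Fin 4) (h : (n0 i : ℤ) ∣ (q : ℤ) - sg i) : ∃ c : ℤ, Ph q i = n0 i + n0 i ^ 2 * c := by
  obtain ⟨a, ha⟩ := h
  have hq : (q : ℤ) = sg i + n0 i * a := by linarith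
  fin_cases i
  · change (q : ℤ) = 1 + 7 * a at hq
    show ∃ c : ℤ, 1 + (q : ℤ) + (q : ℤ) ^ 2 + (q : ℤ) ^ 3 + (q : ℤ) ^ 4 + (q : ℤ) ^ 5 + (q : ℤ) ^ 6 = 7 + 7 ^ 2 * c
    rw [hq]
    exact ⟨3 * a + 35 * a ^ 2 + 245 * a ^ 3 + 1029 * a ^ 4 + 2401 * a ^ 5 + 2401 * a ^ 6, by ring⟩
  · change (q : ℤ) = 1 + 3 * a at hq
    show ∃ c : ℤ, 1 + (q : ℤ) ^ 3 + (q : ℤ) ^ 6 = 3 + 3 ^ 2 * c
    rw [hq]
    exact ⟨3 * a ^ 1 + 18 * a ^ 2 + 63 * a ^ 3 + 135 * a ^ 4 + 162 * a ^ 5 + 81 * a ^ 6, by ring⟩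
  · change (q : ℤ) = -1 + 7 * a at hq
    show ∃ c : ℤ, 1 - (q : ℤ) + (q : ℤ) ^ 2 - (q : ℤ) ^ 3 + (q : ℤ) ^ 4 - (q : ℤ) ^ 5 + (q : ℤ) ^ 6 = 7 + 7 ^ 2 * c
    rw [hq]
    exact ⟨-3 * a ^ 1 + 35 * a ^ 2 + -245 * a ^ 3 + 1029 * a ^ 4 + -2401 * a ^ 5 + 2401 * a ^ 6, by ring⟩
  · change (q : ℤ) = -1 + 3 * a at hq
    show ∃ c : ℤ, 1 - (q : ℤ) ^ 3 + (q : ℤ) ^ 6 = 3 + 3 ^ 2 * c
    rw [hq]
    exact ⟨-3 * a ^ 1 + 18 * a ^ 2 + -63 * a ^ 3 + 135 * a ^ 4 + -162 * a ^ 5 + 81 * a ^ 6, by ring⟩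

theorem mv_mul {q : ℕ} (hq : 1 ≤ q) (i : Fin 4) : gv q i * mv q i = PN q i := by
  refine Nat.mul_div_cancel' ?_
  rcases gv_eq hq i with ⟨h1, h2⟩ | ⟨h1, -⟩
  · obtain ⟨c, hc⟩ := Ph_mod i h2
    rw [h1]
    refine Int.natCast_dvd_natCast.1 ?_
    rw [PN_cast hq, hc]
    exact ⟨1 + n0 i * c, by ring⟩
  · rw [h1]; exact one_dvd _

/-- in the other case `r` divides `n0` -/
theorem Ph_lin {q : ℕ} {r : ℕ} (i : Fin 4) (h1 : (r : ℤ) ∣ Ph q i)
    (h2 : (r : ℤ) ∣ (q : ℤ) ^ (![1, 3, 1, 3] : Fin 4 → ℕ) i - sg i) : (r : ℤ) ∣ (n0 i : ℤ) := by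
  fin_cases i
  · change (r : ℤ) ∣ 1 + (q : ℤ) + (q : ℤ) ^ 2 + (q : ℤ) ^ 3 + (q : ℤ) ^ 4 + (q : ℤ) ^ 5 + (q : ℤ) ^ 6 at h1
    change (r : ℤ) ∣ (q : ℤ) ^ 1 - 1 at h2
    show (r : ℤ) ∣ 7
    have e : (7 : ℤ) = 1 + (q : ℤ) + (q : ℤ) ^ 2 + (q : ℤ) ^ 3 + (q : ℤ) ^ 4 + (q : ℤ) ^ 5 + (q : ℤ) ^ 6 -
      ((q : ℤ) ^ 1 - 1) * ((q : ℤ) ^ 5 + 2 * (q : ℤ) ^ 4 + 3 * (q : ℤ) ^ 3 + 4 * (q : ℤ) ^ 2 + 5 * (q : ℤ) + 6) := by ring
    rw [e]; exact dvd_sub h1 (h2.mul_right _)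
  · change (r : ℤ) ∣ 1 + (q : ℤ) ^ 3 + (q : ℤ) ^ 6 at h1
    change (r : ℤ) ∣ (q : ℤ) ^ 3 - 1 at h2
    show (r : ℤ) ∣ 3
    have e : (3 : ℤ) = 1 + (q : ℤ) ^ 3 + (q : ℤ) ^ 6 - ((q : ℤ) ^ 3 - 1) * ((q : ℤ) ^ 3 + 2) := by ring
    rw [e]; exact dvd_sub h1 (h2.mul_right _)
  · change (r : ℤ) ∣ 1 - (q : ℤ) + (q : ℤ) ^ 2 - (q : ℤ) ^ 3 + (q : ℤ) ^ 4 - (q : ℤ) ^ 5 + (q : ℤ) ^ 6 at h1
    change (r : ℤ) ∣ (q : ℤ) ^ 1 - (-1) at h2
    show (r : ℤ) ∣ 7
    have e : (7 : ℤ) = 1 - (q : ℤ) + (q : ℤ) ^ 2 - (q : ℤ) ^ 3 + (q : ℤ) ^ 4 - (q : ℤ) ^ 5 + (q : ℤ) ^ 6 -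
      ((q : ℤ) ^ 1 - (-1)) * ((q : ℤ) ^ 5 - 2 * (q : ℤ) ^ 4 + 3 * (q : ℤ) ^ 3 - 4 * (q : ℤ) ^ 2 + 5 * (q : ℤ) - 6) := by
      ring
    rw [e]; exact dvd_sub h1 (h2.mul_right _)
  · change (r : ℤ) ∣ 1 - (q : ℤ) ^ 3 + (q : ℤ) ^ 6 at h1
    change (r : ℤ) ∣ (q : ℤ) ^ 3 - (-1) at h2
    show (r : ℤ) ∣ 3
    have e : (3 : ℤ) = 1 - (q : ℤ) ^ 3 + (q : ℤ) ^ 6 - ((q : ℤ) ^ 3 - (-1)) * ((q : ℤ) ^ 3 - 2) := by ring
    rw [e]; exact dvd_sub h1 (h2.mul_right _)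

/-- `q ^ a - s` for a prime divisor of `Φ(q)` -/
theorem dvd_pow_of_Ph {q r : ℕ} (i : Fin 4) (h : (r : ℤ) ∣ Ph q i) : (r : ℤ) ∣ (q : ℤ) ^ dg i - sg i := by
  refine h.trans ?_
  fin_cases i
  · exact ⟨(q : ℤ) - 1, by
      show (q : ℤ) ^ 7 - 1 = (1 + (q : ℤ) + (q : ℤ) ^ 2 + (q : ℤ) ^ 3 + (q : ℤ) ^ 4 + (q : ℤ) ^ 5 + (q : ℤ) ^ 6) * _
      ring⟩
  · exact ⟨(q : ℤ) ^ 3 - 1, by
      show (q : ℤ) ^ 9 - 1 = (1 + (q : ℤ) ^ 3 + (q : ℤ) ^ 6) * _
      ring⟩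
  · exact ⟨(q : ℤ) + 1, by
      show (q : ℤ) ^ 7 - (-1) = (1 - (q : ℤ) + (q : ℤ) ^ 2 - (q : ℤ) ^ 3 + (q : ℤ) ^ 4 - (q : ℤ) ^ 5 + (q : ℤ) ^ 6) * _
      ring⟩
  · exact ⟨(q : ℤ) ^ 3 + 1, by
      show (q : ℤ) ^ 9 - (-1) = (1 - (q : ℤ) ^ 3 + (q : ℤ) ^ 6) * _
      ring⟩

theorem sg_sq (i : Fin 4) : sg i * sg i = 1 := by
  fin_cases i
  · rfl
  · rfl
  · show (-1 : ℤ) * (-1) = 1; norm_num
  · show (-1 : ℤ) * (-1) = 1; norm_num

theorem dvd_sq_sub {a s : ℤ} (hs : s * s = 1) {r : ℤ} (h : r ∣ a - s) : r ∣ a ^ 2 - 1 := by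
  have e : a ^ 2 - 1 = (a - s) * (a + s) := by rw [← hs]; ring
  rw [e]; exact h.mul_right _

/-- **The prime divisors of `mv q i`.** -/
theorem od_of_mv {q r : ℕ} (hq : 2 ≤ q) (hr : r.Prime) {i : Fin 4} (h : r ∣ mv q i) : od q r = ov i := by
  have h1 : (r : ℤ) ∣ Ph q i := by
    rw [← PN_cast (by omega), ← mv_mul (by omega)]
    exact Int.natCast_dvd_natCast.2 (h.mul_left _)
  -- `r ≠ n0`
  have hrn : r ≠ n0 i := by
    intro he
    rcases gv_eq (show 1 ≤ q by omega) i with ⟨h2, h3⟩ | ⟨h2, h3⟩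
    · obtain ⟨c, hc⟩ := Ph_mod i h3
      obtain ⟨d, hd⟩ := h
      have h4 := mv_mul (show 1 ≤ q by omega) i
      rw [hd, h2, ← he] at h4
      have h5 : (PN q i : ℤ) = r * (r * d) := by rw [← h4]; push_cast; ring
      rw [PN_cast (by omega), hc, ← he] at h5
      have h6 : (r : ℤ) * (1 + r * c - r * d) = 0 := by linear_combination h5
      have h7 : (r : ℤ) ≠ 0 := by exact_mod_cast hr.ne_zero
      rcases mul_eq_zero.1 h6 with h8 | h8
      · exact h7 h8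
      · have h9 : (r : ℤ) ∣ 1 := ⟨d - c, by linear_combination h8⟩
        exact hr.one_lt.ne' (Nat.dvd_one.1 (Int.natCast_dvd_natCast.1 (by exact_mod_cast h9)))
    · apply h3
      rw [← he]
      have h4 := dvd_pow_of_Ph i h1
      have hn := n0_prime i
      rw [← he] at hn
      -- Fermat
      have hF : (r : ℤ) ∣ (q : ℤ) ^ dg i - (q : ℤ) ∨ r = 3 := by
        have : Fact r.Prime := ⟨hr⟩
        have key : (r : ℤ) ∣ (q : ℤ) ^ r - q := by
          rw [← ZMod.intCast_zmod_eq_zero_iff_dvd]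
          push_cast
          rw [ZMod.pow_card, sub_self]
        fin_cases i
        · left; change r = 7 at he; rw [he] at key ⊢; exact key
        · right; exact he
        · left; change r = 7 at he; rw [he] at key ⊢; exact key
        · right; exact he
      rcases hF with hF | hF
      · have := dvd_sub h4 hF
        rwa [sub_sub_sub_cancel_left] at this
      · subst hF
        have hd : dg i = 9 := by
          fin_cases i
          · exact absurd he (by decide)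
          · rfl
          · exact absurd he (by decide)
          · rfl
        rw [hd] at h4
        have : Fact (Nat.Prime 3) := ⟨Nat.prime_three⟩
        have key : ((3 : ℕ) : ℤ) ∣ (q : ℤ) ^ 9 - q := by
          rw [← ZMod.intCast_zmod_eq_zero_iff_dvd]
          push_cast
          have e : ((q : ℕ) : ZMod 3) ^ 9 = (((q : ℕ) : ZMod 3) ^ 3) ^ 3 := by rw [← pow_mul]
          rw [e, ZMod.pow_card, ZMod.pow_card, sub_self]
        have := dvd_sub h4 key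
        rwa [sub_sub_sub_cancel_left] at this
  have h2 := dvd_pow_of_Ph i h1
  have hnot : ¬ (r : ℤ) ∣ (q : ℤ) ^ (![1, 3, 1, 3] : Fin 4 → ℕ) i - sg i := by
    intro h3
    have h4 := Ph_lin i h1 h3
    exact hrn ((Nat.prime_dvd_prime_iff_eq hr (n0_prime i)).1 (Int.natCast_dvd_natCast.1 h4))
  have hr2 : (i = 2 ∨ i = 3) → r ≠ 2 := by
    rintro hi rfl
    -- `Φ` is odd
    have hodd : ¬ (2 : ℤ) ∣ Ph q i := by
      rcases Nat.even_or_odd q with he | ho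
      · have hk : (2 : ℤ) ∣ (q : ℤ) := by exact_mod_cast he.two_dvd
        obtain ⟨b, hb⟩ := hk
        rintro ⟨c, hc⟩
        rcases hi with rfl | rfl
        · change 1 - (q : ℤ) + (q : ℤ) ^ 2 - (q : ℤ) ^ 3 + (q : ℤ) ^ 4 - (q : ℤ) ^ 5 + (q : ℤ) ^ 6 = 2 * c at hc
          have : (2 : ℤ) * (c + b - (q : ℤ) * b + (q : ℤ) ^ 2 * b - (q : ℤ) ^ 3 * b + (q : ℤ) ^ 4 * b - (q : ℤ) ^ 5 * b) = 1 := by
            linear_combination -hc + (-1 + (q : ℤ) - (q : ℤ) ^ 2 + (q : ℤ) ^ 3 - (q : ℤ) ^ 4 + (q : ℤ) ^ 5) * hb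
          omega
        · change 1 - (q : ℤ) ^ 3 + (q : ℤ) ^ 6 = 2 * c at hc
          have : (2 : ℤ) * (c + (q : ℤ) ^ 2 * b - (q : ℤ) ^ 5 * b) = 1 := by
            linear_combination -hc + (-(q : ℤ) ^ 2 + (q : ℤ) ^ 5) * hb
          omega
      · have := Ph_odd ho i
        intro h
        exact (Int.not_even_iff_odd.2 this) (even_iff_two_dvd.2 h)
    exact hodd h1
  -- the order
  fin_cases i
  · change (r : ℤ) ∣ (q : ℤ) ^ 7 - 1 at h2
    change ¬ (r : ℤ) ∣ (q : ℤ) ^ 1 - 1 at hnot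
    have h3 := (CycTab.dvd_iff 7).1 h2
    rw [CycTab.dvd_iff 1] at hnot
    show orderOf ((q : ℕ) : ZMod r) = 7
    rcases (Nat.dvd_prime (by norm_num : (7 : ℕ).Prime)).1 h3 with h4 | h4
    · exact absurd (h4 ▸ dvd_rfl) hnot
    · exact h4
  · change (r : ℤ) ∣ (q : ℤ) ^ 9 - 1 at h2
    change ¬ (r : ℤ) ∣ (q : ℤ) ^ 3 - 1 at hnot
    have h3 := (CycTab.dvd_iff 9).1 h2
    rw [CycTab.dvd_iff 3] at hnot
    show orderOf ((q : ℕ) : ZMod r) = 9
    revert h3 hnot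
    generalize orderOf ((q : ℕ) : ZMod r) = o
    intro hnot h3
    have := Nat.le_of_dvd (by norm_num) h3
    interval_cases o <;> revert h3 hnot <;> decide
  · change (r : ℤ) ∣ (q : ℤ) ^ 7 - (-1) at h2
    change ¬ (r : ℤ) ∣ (q : ℤ) ^ 1 - (-1) at hnot
    have h3 : (r : ℤ) ∣ (q : ℤ) ^ 14 - 1 := by
      have := dvd_sq_sub (s := -1) (by norm_num) h2
      rwa [← pow_mul] at this
    have h4 := (CycTab.dvd_iff 14).1 h3
    have h7 : ¬ (r : ℤ) ∣ (q : ℤ) ^ 7 - 1 := by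
      intro h5
      have h6 := dvd_sub h2 h5
      have e : (q : ℤ) ^ 7 - (-1) - ((q : ℤ) ^ 7 - 1) = (2 : ℕ) := by push_cast; ring
      rw [e] at h6
      exact hr2 (Or.inl rfl) ((Nat.prime_dvd_prime_iff_eq hr Nat.prime_two).1 (Int.natCast_dvd_natCast.1 h6))
    have h2' : ¬ (r : ℤ) ∣ (q : ℤ) ^ 2 - 1 := by
      intro h5
      apply hnot
      have e : (q : ℤ) ^ 1 - (-1) = ((q : ℤ) ^ 7 - (-1)) - ((q : ℤ) ^ 2 - 1) * (q * ((q : ℤ) ^ 4 + (q : ℤ) ^ 2 + 1)) := by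
        ring
      rw [e]
      exact dvd_sub h2 (h5.mul_right _)
    rw [CycTab.dvd_iff 7] at h7
    rw [CycTab.dvd_iff 2] at h2'
    show orderOf ((q : ℕ) : ZMod r) = 14
    revert h4 h7 h2'
    generalize orderOf ((q : ℕ) : ZMod r) = o
    intro h4 h7 h2'
    have := Nat.le_of_dvd (by norm_num) h4
    interval_cases o <;> revert h4 h7 h2' <;> decide
  · change (r : ℤ) ∣ (q : ℤ) ^ 9 - (-1) at h2
    change ¬ (r : ℤ) ∣ (q : ℤ) ^ 3 - (-1) at hnot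
    have h3 : (r : ℤ) ∣ (q : ℤ) ^ 18 - 1 := by
      have := dvd_sq_sub (s := -1) (by norm_num) h2
      rwa [← pow_mul] at this
    have h4 := (CycTab.dvd_iff 18).1 h3
    have h7 : ¬ (r : ℤ) ∣ (q : ℤ) ^ 9 - 1 := by
      intro h5
      have h6 := dvd_sub h2 h5
      have e : (q : ℤ) ^ 9 - (-1) - ((q : ℤ) ^ 9 - 1) = (2 : ℕ) := by push_cast; ring
      rw [e] at h6
      exact hr2 (Or.inr rfl) ((Nat.prime_dvd_prime_iff_eq hr Nat.prime_two).1 (Int.natCast_dvd_natCast.1 h6))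
    have h2' : ¬ (r : ℤ) ∣ (q : ℤ) ^ 6 - 1 := by
      intro h5
      apply hnot
      have e : (q : ℤ) ^ 3 - (-1) = ((q : ℤ) ^ 9 - (-1)) - ((q : ℤ) ^ 6 - 1) * (q : ℤ) ^ 3 := by
        ring
      rw [e]
      exact dvd_sub h2 (h5.mul_right _)
    rw [CycTab.dvd_iff 9] at h7
    rw [CycTab.dvd_iff 6] at h2'
    show orderOf ((q : ℕ) : ZMod r) = 18
    revert h4 h7 h2'
    generalize orderOf ((q : ℕ) : ZMod r) = o
    intro h4 h7 h2'
    have := Nat.le_of_dvd (by norm_num) h4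
    interval_cases o <;> revert h4 h7 h2' <;> decide

theorem mv_ne {q : ℕ} (hq : 2 ≤ q) (i : Fin 4) : 0 < mv q i := by
  rcases Nat.eq_zero_or_pos (mv q i) with h | h
  · exfalso
    have h1 := mv_mul (show 1 ≤ q by omega) i
    rw [h, mul_zero] at h1
    have h2 := PN_cast (show 1 ≤ q by omega) i
    rw [← h1] at h2
    have h3 : Odd (Ph q i) ∨ Even q := by
      rcases Nat.even_or_odd q with h | h
      · exact Or.inr h
      · exact Or.inl (Ph_odd h i)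
    have h5 : (Nv q i : ℤ) = 0 := by rw [Nv_sg hq, ← h2]; simp
    have h6 : Nv q i = 0 := by exact_mod_cast h5
    have h7 : 0 < q ^ 6 := by positivity
    have h8 : q < q ^ 7 := lt_self_pow₀ (by omega) (by norm_num)
    have h9 : q ^ 3 ≤ q ^ 6 := Nat.pow_le_pow_right (by omega) (by norm_num)
    fin_cases i
    · change q ^ 7 - 1 = 0 at h6; omega
    · change (q - 1) * (q ^ 6 + q ^ 3 + 1) = 0 at h6
      rcases mul_eq_zero.1 h6 with h | h <;> omega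
    · change q ^ 7 + 1 = 0 at h6; omega
    · change (q + 1) * (q ^ 6 - q ^ 3 + 1) = 0 at h6
      rcases mul_eq_zero.1 h6 with h | h <;> omega
  · exact h

theorem gv_le {q : ℕ} (hq : 1 ≤ q) (i : Fin 4) : gv q i ≤ 7 := by
  rcases gv_eq hq i with ⟨h, -⟩ | ⟨h, -⟩ <;> rw [h]
  · fin_cases i <;> decide
  · norm_num

theorem le_PN {q : ℕ} (hq : 4 ≤ q) (i : Fin 4) : 3 * q ^ 6 ≤ 4 * PN q i := by
  have h : 4 * q ^ 5 ≤ q ^ 6 := by
    have : q ^ 6 = q * q ^ 5 := by ring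
    rw [this]; exact Nat.mul_le_mul_right _ hq
  have h2 : q ^ 2 ≤ q ^ 3 := Nat.pow_le_pow_right (by omega) (by norm_num)
  have h3 : q ^ 3 ≤ q ^ 4 := Nat.pow_le_pow_right (by omega) (by norm_num)
  have h4 : q ^ 4 ≤ q ^ 5 := Nat.pow_le_pow_right (by omega) (by norm_num)
  have h1 : q ≤ q ^ 2 := Nat.le_self_pow (by norm_num) q
  fin_cases i
  · show 3 * q ^ 6 ≤ 4 * (1 + q + q ^ 2 + q ^ 3 + q ^ 4 + q ^ 5 + q ^ 6); omega
  · show 3 * q ^ 6 ≤ 4 * (1 + q ^ 3 + q ^ 6); omega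
  · show 3 * q ^ 6 ≤ 4 * (1 + q ^ 2 + q ^ 4 + q ^ 6 - (q + q ^ 3 + q ^ 5)); omega
  · show 3 * q ^ 6 ≤ 4 * (1 + q ^ 6 - q ^ 3); omega

theorem le_mv {q : ℕ} (hq : 4 ≤ q) (i : Fin 4) : 3 * q ^ 6 ≤ 28 * mv q i := by
  have h1 := le_PN hq i
  rw [← mv_mul (by omega)] at h1
  have h2 := Nat.mul_le_mul_right (mv q i) (gv_le (show 1 ≤ q by omega) i)
  omega

/-! ### the order of E7(q) -/

/-- `(2, q - 1) |E7(q)|` -/
def EN (q : ℕ) : ℕ := q ^ 63 * ((q ^ 2 - 1) * (q ^ 6 - 1) * (q ^ 8 - 1) * (q ^ 10 - 1) * (q ^ 12 - 1) * (q ^ 14 - 1) *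
  (q ^ 18 - 1))

/-- the complementary factor -/
def RS (q : ℕ) (i : Fin 4) : ℕ := q ^ 63 * ((q ^ 2 - 1) * (q ^ 6 - 1) * (q ^ 8 - 1) * (q ^ 10 - 1) * (q ^ 12 - 1)) *
  (![(q ^ 7 + 1) * (q ^ 18 - 1), (q ^ 2 + q + 1) * ((q ^ 9 + 1) * (q ^ 14 - 1)), (q ^ 7 - 1) * (q ^ 18 - 1),
    (q ^ 2 - q + 1) * ((q ^ 9 - 1) * (q ^ 14 - 1))] : Fin 4 → ℕ) i

theorem EN_eq {q : ℕ} (hq : 2 ≤ q) (i : Fin 4) : EN q = Nv q i * RS q i := by
  have h2 : 1 ≤ q ^ 2 := Nat.one_le_pow _ _ (by omega)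
  have h6 : 1 ≤ q ^ 6 := Nat.one_le_pow _ _ (by omega)
  have h7 : 1 ≤ q ^ 7 := Nat.one_le_pow _ _ (by omega)
  have h8 : 1 ≤ q ^ 8 := Nat.one_le_pow _ _ (by omega)
  have h9 : 1 ≤ q ^ 9 := Nat.one_le_pow _ _ (by omega)
  have h10 : 1 ≤ q ^ 10 := Nat.one_le_pow _ _ (by omega)
  have h12 : 1 ≤ q ^ 12 := Nat.one_le_pow _ _ (by omega)
  have h14 : 1 ≤ q ^ 14 := Nat.one_le_pow _ _ (by omega)
  have h18 : 1 ≤ q ^ 18 := Nat.one_le_pow _ _ (by omega)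
  have h36 : q ^ 3 ≤ q ^ 6 := Nat.pow_le_pow_right (by omega) (by norm_num)
  have h12' : q ≤ q ^ 2 := Nat.le_self_pow (by norm_num) q
  have h1 : 1 ≤ q := by omega
  fin_cases i
  · show q ^ 63 * ((q ^ 2 - 1) * (q ^ 6 - 1) * (q ^ 8 - 1) * (q ^ 10 - 1) * (q ^ 12 - 1) * (q ^ 14 - 1) *
      (q ^ 18 - 1)) = (q ^ 7 - 1) * (q ^ 63 * ((q ^ 2 - 1) * (q ^ 6 - 1) * (q ^ 8 - 1) * (q ^ 10 - 1) * (q ^ 12 - 1)) *
      ((q ^ 7 + 1) * (q ^ 18 - 1)))
    have e : q ^ 14 - 1 = (q ^ 7 - 1) * (q ^ 7 + 1) := by zify [h14, h7]; ring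
    rw [e]; ring
  · show q ^ 63 * ((q ^ 2 - 1) * (q ^ 6 - 1) * (q ^ 8 - 1) * (q ^ 10 - 1) * (q ^ 12 - 1) * (q ^ 14 - 1) *
      (q ^ 18 - 1)) = ((q - 1) * (q ^ 6 + q ^ 3 + 1)) *
      (q ^ 63 * ((q ^ 2 - 1) * (q ^ 6 - 1) * (q ^ 8 - 1) * (q ^ 10 - 1) * (q ^ 12 - 1)) *
      ((q ^ 2 + q + 1) * ((q ^ 9 + 1) * (q ^ 14 - 1))))
    have e : q ^ 18 - 1 = (q - 1) * (q ^ 6 + q ^ 3 + 1) * (q ^ 2 + q + 1) * (q ^ 9 + 1) := by zify [h18, h1]; ring
    rw [e]; ring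
  · show q ^ 63 * ((q ^ 2 - 1) * (q ^ 6 - 1) * (q ^ 8 - 1) * (q ^ 10 - 1) * (q ^ 12 - 1) * (q ^ 14 - 1) *
      (q ^ 18 - 1)) = (q ^ 7 + 1) * (q ^ 63 * ((q ^ 2 - 1) * (q ^ 6 - 1) * (q ^ 8 - 1) * (q ^ 10 - 1) * (q ^ 12 - 1)) *
      ((q ^ 7 - 1) * (q ^ 18 - 1)))
    have e : q ^ 14 - 1 = (q ^ 7 - 1) * (q ^ 7 + 1) := by zify [h14, h7]; ring
    rw [e]; ring
  · show q ^ 63 * ((q ^ 2 - 1) * (q ^ 6 - 1) * (q ^ 8 - 1) * (q ^ 10 - 1) * (q ^ 12 - 1) * (q ^ 14 - 1) *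
      (q ^ 18 - 1)) = ((q + 1) * (q ^ 6 - q ^ 3 + 1)) *
      (q ^ 63 * ((q ^ 2 - 1) * (q ^ 6 - 1) * (q ^ 8 - 1) * (q ^ 10 - 1) * (q ^ 12 - 1)) *
      ((q ^ 2 - q + 1) * ((q ^ 9 - 1) * (q ^ 14 - 1))))
    have e : q ^ 18 - 1 = (q + 1) * (q ^ 6 - q ^ 3 + 1) * (q ^ 2 - q + 1) * (q ^ 9 - 1) := by
      zify [h18, h9, h36, h12']; ring
    rw [e]; ring

theorem dvd_nat_iff {q r : ℕ} (hq : 1 ≤ q) (n : ℕ) : r ∣ q ^ n - 1 ↔ od q r ∣ n := by
  rw [← Int.natCast_dvd_natCast, Nat.cast_sub (Nat.one_le_pow _ _ hq)]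
  push_cast
  exact CycTab.dvd_iff n

/-- `r ∤ RS q i (q ∓ 1)` for the primes of type `i` -/
theorem not_dvd_RS {q r : ℕ} (hq : 2 ≤ q) (hr : r.Prime) {i : Fin 4} (h : od q r = ov i) : ¬ r ∣ RS q i := by
  have hr19 := r_ge hr h
  have h0 : 0 < ov i := by fin_cases i <;> decide
  have hrq : ¬ r ∣ q := H378.RegFin.not_dvd_q hr h h0
  have hq1 : 1 ≤ q := by omega
  have hn : ∀ n, ¬ ov i ∣ n → ¬ r ∣ q ^ n - 1 := fun n hn hd => hn (h ▸ (dvd_nat_iff hq1 n).1 hd)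
  have hplus : ∀ n, ov i ∣ n → ¬ r ∣ q ^ n + 1 := by
    intro n hn hd
    have h1 := (dvd_nat_iff (r := r) hq1 n).2 (h ▸ hn)
    have h2 := Nat.dvd_sub hd h1
    have h3 : 1 ≤ q ^ n := Nat.one_le_pow _ _ hq1
    have e : q ^ n + 1 - (q ^ n - 1) = 2 := by omega
    rw [e] at h2
    have := Nat.le_of_dvd (by norm_num) h2
    omega
  have hplus' : ∀ n, ¬ ov i ∣ 2 * n → ¬ r ∣ q ^ n + 1 := by
    intro n hn' hd
    apply hn (2 * n) hn'
    refine hd.trans ⟨q ^ n - 1, ?_⟩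
    have h3 : 1 ≤ q ^ n := Nat.one_le_pow _ _ hq1
    have h4 : 1 ≤ q ^ (2 * n) := Nat.one_le_pow _ _ hq1
    zify [h3, h4]; ring
  have hmul : ∀ {a b : ℕ}, ¬ r ∣ a → ¬ r ∣ b → ¬ r ∣ a * b := fun ha hb hd => (hr.dvd_mul.1 hd).elim ha hb
  have hbase : ¬ r ∣ q ^ 63 * ((q ^ 2 - 1) * (q ^ 6 - 1) * (q ^ 8 - 1) * (q ^ 10 - 1) * (q ^ 12 - 1)) := by
    refine hmul (fun hd => hrq (hr.dvd_of_dvd_pow hd)) (hmul (hmul (hmul (hmul ?_ ?_) ?_) ?_) ?_)
    all_goals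
      refine hn _ ?_
      fin_cases i <;> decide
  refine hmul hbase ?_
  fin_cases i
  · exact hmul (hplus 7 (by decide)) (hn 18 (by decide))
  · refine hmul (fun hd => hn 3 (by decide) (hd.trans ⟨q - 1, ?_⟩)) (hmul (hplus 9 (by decide)) (hn 14 (by decide)))
    have h3 : 1 ≤ q ^ 3 := Nat.one_le_pow _ _ hq1
    zify [h3, hq1]; ring
  · exact hmul (hn 7 (by decide)) (hn 18 (by decide))
  · refine hmul (fun hd => hplus' 3 (by decide) (hd.trans ⟨q + 1, ?_⟩)) (hmul (hn 9 (by decide)) (hn 14 (by decide)))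
    have h12' : q ≤ q ^ 2 := Nat.le_self_pow (by norm_num) q
    zify [h12']; ring

/-! ### the `r`-parts -/

theorem P_factor {r a : ℕ} (hr : r.Prime) (_ : a ≠ 0) : P r a = r ^ padicValNat r a := by
  rw [P, Nat.factorization_def _ hr]

/-- lifting the exponent, `r` odd -/
theorem P_pow_odd {r b j : ℕ} (hr : r.Prime) (hr2 : r ≠ 2) (hb : 2 ≤ b) (hd : r ∣ b - 1) (hj : j ≠ 0) :
    P r (b ^ j - 1) = P r (b - 1) * P r j := by
  have : Fact r.Prime := ⟨hr⟩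
  have hrb : ¬ r ∣ b := by
    intro h
    have h1 := Nat.dvd_sub h hd
    have e : b - (b - 1) = 1 := by omega
    rw [e] at h1
    exact hr.one_lt.ne' (Nat.dvd_one.1 h1)
  have h1 := padicValNat.pow_sub_pow (p := r) (hr.odd_of_ne_two hr2) (x := b) (y := 1) (by omega) hd hrb hj
  rw [one_pow] at h1
  have h2 : b ^ j - 1 ≠ 0 := by
    have := Nat.one_lt_pow hj (show 1 < b by omega)
    omega
  rw [P_factor hr h2, h1, pow_add, P_factor hr (by omega), P_factor hr hj]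

/-- lifting the exponent, `r = 2` -/
theorem P_pow_two {q j : ℕ} (hq : 2 ≤ q) (hodd : ¬ 2 ∣ q) (hj : j ≠ 0) :
    P 2 ((q ^ 2) ^ j - 1) = P 2 (q ^ 2 - 1) * P 2 j := by
  have : Fact (Nat.Prime 2) := ⟨Nat.prime_two⟩
  have h21 : 2 ∣ q - 1 := by omega
  have h1 := padicValNat.pow_two_sub_pow (x := q) (y := 1) (by omega) h21 hodd (n := 2 * j) (by omega) (even_two_mul j)
  have h2 := padicValNat.pow_two_sub_pow (x := q) (y := 1) (by omega) h21 hodd (n := 2) (by omega) even_two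
  rw [one_pow] at h1 h2
  rw [pow_mul] at h1
  have h3 : padicValNat 2 (2 * j) = 1 + padicValNat 2 j := by
    rw [padicValNat.mul (by norm_num) hj, padicValNat_self]
  have h4 : padicValNat 2 2 = 1 := padicValNat_self
  rw [h3] at h1
  rw [h4] at h2
  have hn1 : (q ^ 2) ^ j - 1 ≠ 0 := by
    have : 1 < q ^ 2 := Nat.one_lt_pow (by norm_num) (by omega)
    have := Nat.one_lt_pow hj this
    omega
  have hn2 : q ^ 2 - 1 ≠ 0 := by
    have : 1 < q ^ 2 := Nat.one_lt_pow (by norm_num) (by omega)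
    omega
  rw [P_factor Nat.prime_two hn1, P_factor Nat.prime_two hn2, P_factor Nat.prime_two hj, ← pow_add]
  congr 1
  omega

theorem P_EN {q r : ℕ} (hq : 2 ≤ q) (hr : r.Prime) (hrq : ¬ r ∣ q) : P r (EN q) =
    P r (q ^ 2 - 1) * P r (q ^ 6 - 1) * P r (q ^ 8 - 1) * P r (q ^ 10 - 1) * P r (q ^ 12 - 1) * P r (q ^ 14 - 1) *
      P r (q ^ 18 - 1) := by
  have hn : ∀ n, n ≠ 0 → q ^ n - 1 ≠ 0 := by
    intro n hn
    have := Nat.one_lt_pow hn (show 1 < q by omega)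
    omega
  have h2 := hn 2 (by norm_num)
  have h6 := hn 6 (by norm_num)
  have h8 := hn 8 (by norm_num)
  have h10 := hn 10 (by norm_num)
  have h12 := hn 12 (by norm_num)
  have h14 := hn 14 (by norm_num)
  have h18 := hn 18 (by norm_num)
  have h63 : q ^ 63 ≠ 0 := by positivity
  rw [EN, P_mul h63 (by positivity), P_mul (by positivity) h18, P_mul (by positivity) h14, P_mul (by positivity) h12,
    P_mul (by positivity) h10, P_mul (by positivity) h8, P_mul h2 h6]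
  rw [P_eq_one (fun hd => hrq (hr.dvd_of_dvd_pow hd)), one_mul]

/-- **The `r`-parts.** -/
theorem P_le_EN {q r M : ℕ} (hq : 3 ≤ q) (hr : r.Prime) (hrq : ¬ r ∣ q) (hM : Nat.gcd 2 (q - 1) * M = EN q) :
    P r M ≤ 512 * (q + 1) ^ 7 ∨ P r M ≤ (q ^ 3 + 1) ^ 3 ∨ P r M ≤ (q ^ 4 + 1) * (q ^ 6 + 1) := by
  have hq2 : 2 ≤ q := by omega
  have hq1 : 1 ≤ q := by omega
  have hP := P_EN hq2 hr hrq
  have hEN0 : EN q ≠ 0 := by
    intro h0
    have hn : ∀ n, n ≠ 0 → q ^ n - 1 ≠ 0 := by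
      intro n hn
      have := Nat.one_lt_pow hn (show 1 < q by omega)
      omega
    have h2 := hn 2 (by norm_num)
    have h6 := hn 6 (by norm_num)
    have h8 := hn 8 (by norm_num)
    have h10 := hn 10 (by norm_num)
    have h12 := hn 12 (by norm_num)
    have h14 := hn 14 (by norm_num)
    have h18 := hn 18 (by norm_num)
    have h63 : q ^ 63 ≠ 0 := by positivity
    rw [EN] at h0
    have : q ^ 63 * ((q ^ 2 - 1) * (q ^ 6 - 1) * (q ^ 8 - 1) * (q ^ 10 - 1) * (q ^ 12 - 1) * (q ^ 14 - 1) *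
      (q ^ 18 - 1)) ≠ 0 := by positivity
    exact this h0
  have hg0 : Nat.gcd 2 (q - 1) ≠ 0 := (Nat.gcd_pos_of_pos_left _ two_pos).ne'
  have hM0 : M ≠ 0 := by rintro rfl; rw [mul_zero] at hM; exact hEN0 hM.symm
  have hPM : P r M ≤ P r (EN q) := P_mono hr hEN0 ⟨_, by rw [← hM, mul_comm]⟩
  have hsq : ∀ j, (q ^ 2) ^ j = q ^ (2 * j) := fun j => (pow_mul q 2 j).symm
  by_cases h2 : r ∣ q ^ 2 - 1
  · left
    by_cases hr2 : r = 2
    · subst hr2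
      have hodd : Odd q := Nat.not_even_iff_odd.1 fun h => hrq h.two_dvd
      have h1 := P_two_sq_sub_one_le hq hodd
      have key := fun j (hj : j ≠ 0) => P_pow_two hq2 hrq hj
      simp only [hsq] at key
      have k3 := key 3 (by norm_num)
      have k4 := key 4 (by norm_num)
      have k5 := key 5 (by norm_num)
      have k6 := key 6 (by norm_num)
      have k7 := key 7 (by norm_num)
      have k9 := key 9 (by norm_num)
      norm_num at k3 k4 k5 k6 k7 k9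
      have e3 : P 2 3 = 1 := P_eq_one (by norm_num)
      have e5 : P 2 5 = 1 := P_eq_one (by norm_num)
      have e7 : P 2 7 = 1 := P_eq_one (by norm_num)
      have e9 : P 2 9 = 1 := P_eq_one (by norm_num)
      have e4 : P 2 4 = 4 := P_pow_self (k := 2) (a := 1) Nat.prime_two (by norm_num)
      have e6 : P 2 6 = 2 := P_pow_self (k := 1) (a := 3) Nat.prime_two (by norm_num)
      rw [k3, k4, k5, k6, k7, k9, e3, e4, e5, e6, e7, e9] at hP
      have hg : Nat.gcd 2 (q - 1) = 2 := by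
        rw [Nat.gcd_eq_left]
        obtain ⟨m, hm⟩ := hodd
        exact ⟨m, by omega⟩
      have e2 : P 2 2 = 2 := P_pow_self (k := 1) (a := 1) Nat.prime_two (by norm_num)
      have hP2 : P 2 (EN q) = 2 * P 2 M := by rw [← hM, hg, P_mul (by norm_num) hM0, e2]
      rw [hP2] at hP
      have h3 : (P 2 (q ^ 2 - 1)) ^ 7 ≤ (2 * (q + 1)) ^ 7 := Nat.pow_le_pow_left h1 7
      have e : (2 * (q + 1)) ^ 7 = 128 * (q + 1) ^ 7 := by ring
      rw [e] at h3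
      have h4 : 2 * P 2 M = 8 * (P 2 (q ^ 2 - 1)) ^ 7 := by rw [hP]; ring
      omega
    · have h1 : P r (q ^ 2 - 1) ≤ q + 1 := by
        have := P_sq_sub_one_le hr hr2 hq2 (j := 1) le_rfl
        simpa using this
      have key := fun j (hj : j ≠ 0) => P_pow_odd (b := q ^ 2) hr hr2 (by nlinarith) h2 hj
      simp only [hsq] at key
      have k3 := key 3 (by norm_num)
      have k4 := key 4 (by norm_num)
      have k5 := key 5 (by norm_num)
      have k6 := key 6 (by norm_num)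
      have k7 := key 7 (by norm_num)
      have k9 := key 9 (by norm_num)
      norm_num at k3 k4 k5 k6 k7 k9
      rw [k3, k4, k5, k6, k7, k9] at hP
      have hprod : P r 3 * P r 4 * P r 5 * P r 6 * P r 7 * P r 9 ≤ 81 := by
        have e : P r 3 * P r 4 * P r 5 * P r 6 * P r 7 * P r 9 = P r 22680 := by
          rw [← P_mul (by norm_num) (by norm_num), ← P_mul (by norm_num) (by norm_num),
            ← P_mul (by norm_num) (by norm_num), ← P_mul (by norm_num) (by norm_num),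
            ← P_mul (by norm_num) (by norm_num)]
        rw [e]
        by_cases h3 : r = 3
        · subst h3
          exact (P_pow_self (k := 4) (a := 280) Nat.prime_three (by norm_num)).le
        by_cases h5 : r = 5
        · subst h5
          exact (P_pow_self (k := 1) (a := 4536) (by norm_num) (by norm_num)).le.trans (by norm_num)
        by_cases h7 : r = 7
        · subst h7
          exact (P_pow_self (k := 1) (a := 3240) (by norm_num) (by norm_num)).le.trans (by norm_num)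
        · rw [P_eq_one]
          · norm_num
          · intro hd
            have e : (22680 : ℕ) = 2 ^ 3 * 3 ^ 4 * (5 * 7) := by norm_num
            rw [e] at hd
            rcases hr.dvd_mul.1 hd with hd | hd
            · rcases hr.dvd_mul.1 hd with hd | hd
              · exact hr2 ((Nat.prime_dvd_prime_iff_eq hr Nat.prime_two).1 (hr.dvd_of_dvd_pow hd))
              · exact h3 ((Nat.prime_dvd_prime_iff_eq hr Nat.prime_three).1 (hr.dvd_of_dvd_pow hd))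
            · rcases hr.dvd_mul.1 hd with hd | hd
              · exact h5 ((Nat.prime_dvd_prime_iff_eq hr (by norm_num)).1 hd)
              · exact h7 ((Nat.prime_dvd_prime_iff_eq hr (by norm_num)).1 hd)
      have h4 : P r (EN q) = (P r (q ^ 2 - 1)) ^ 7 * (P r 3 * P r 4 * P r 5 * P r 6 * P r 7 * P r 9) := by
        rw [hP]; ring
      have h5 : (P r (q ^ 2 - 1)) ^ 7 * (P r 3 * P r 4 * P r 5 * P r 6 * P r 7 * P r 9) ≤ (q + 1) ^ 7 * 81 :=
        Nat.mul_le_mul (Nat.pow_le_pow_left h1 7) hprod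
      omega
  · right
    have hr2 : r ≠ 2 := by
      rintro rfl
      apply h2
      have hodd : Odd q := Nat.not_even_iff_odd.1 fun h => hrq h.two_dvd
      have h3 : Odd (q ^ 2) := hodd.pow
      obtain ⟨m, hm⟩ := h3
      exact ⟨m, by omega⟩
    have hle : ∀ j, 1 ≤ j → P r (q ^ (2 * j) - 1) ≤ q ^ j + 1 := fun j hj => P_sq_sub_one_le hr hr2 hq2 hj
    have hone : ∀ n, ¬ od q r ∣ n → P r (q ^ n - 1) = 1 := fun n hn =>
      P_eq_one fun hd => hn ((dvd_nat_iff hq1 n).1 hd)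
    have ho2 : ¬ od q r ∣ 2 := fun hd => h2 ((dvd_nat_iff hq1 2).2 hd)
    have k1 := hone 2 ho2
    have k3 := hle 3 (by norm_num)
    have k4 := hle 4 (by norm_num)
    have k5 := hle 5 (by norm_num)
    have k6 := hle 6 (by norm_num)
    have k7 := hle 7 (by norm_num)
    have k9 := hle 9 (by norm_num)
    norm_num at k3 k4 k5 k6 k7 k9
    by_cases ho6 : od q r ∣ 6
    · left
      have h6 : r ∣ q ^ 6 - 1 := (dvd_nat_iff hq1 6).2 ho6
      have hr3 : r ≠ 3 := by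
        rintro rfl
        apply h2
        rw [dvd_nat_iff hq1 2]
        have : Fact (Nat.Prime 3) := ⟨Nat.prime_three⟩
        have h0 : ((q : ℕ) : ZMod 3) ≠ 0 := fun h0 => hrq ((ZMod.natCast_eq_zero_iff q 3).1 h0)
        have := ZMod.orderOf_dvd_card_sub_one h0
        exact this
      have key := fun j (hj : j ≠ 0) => P_pow_odd (b := q ^ 6) hr hr2
        ((show 2 ≤ q by omega).trans (Nat.le_self_pow (by norm_num) q)) h6 hj
      have m2 := key 2 (by norm_num)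
      have m3 := key 3 (by norm_num)
      rw [← pow_mul] at m2 m3
      norm_num at m2 m3
      rw [P_eq_one (fun hd => hr2 ((Nat.prime_dvd_prime_iff_eq hr Nat.prime_two).1 hd)), mul_one] at m2
      rw [P_eq_one (fun hd => hr3 ((Nat.prime_dvd_prime_iff_eq hr Nat.prime_three).1 hd)), mul_one] at m3
      have l8 : P r (q ^ 8 - 1) = 1 := hone 8 fun hd => ho2 (by simpa using Nat.dvd_gcd ho6 hd)
      have l10 : P r (q ^ 10 - 1) = 1 := hone 10 fun hd => ho2 (by simpa using Nat.dvd_gcd ho6 hd)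
      have l14 : P r (q ^ 14 - 1) = 1 := hone 14 fun hd => ho2 (by simpa using Nat.dvd_gcd ho6 hd)
      rw [k1, l8, l10, l14, m2, m3] at hP
      have h4 : P r (EN q) = (P r (q ^ 6 - 1)) ^ 3 := by rw [hP]; ring
      have h5 : (P r (q ^ 6 - 1)) ^ 3 ≤ (q ^ 3 + 1) ^ 3 := Nat.pow_le_pow_left k3 3
      omega
    · have l6 := hone 6 ho6
      by_cases ho14 : od q r ∣ 14
      · left
        have l8 : P r (q ^ 8 - 1) = 1 := hone 8 fun hd => ho2 (by simpa using Nat.dvd_gcd ho14 hd)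
        have l10 : P r (q ^ 10 - 1) = 1 := hone 10 fun hd => ho2 (by simpa using Nat.dvd_gcd ho14 hd)
        have l12 : P r (q ^ 12 - 1) = 1 := hone 12 fun hd => ho2 (by simpa using Nat.dvd_gcd ho14 hd)
        have l18 : P r (q ^ 18 - 1) = 1 := hone 18 fun hd => ho2 (by simpa using Nat.dvd_gcd ho14 hd)
        rw [k1, l6, l8, l10, l12, l18, one_mul, one_mul, one_mul, one_mul, one_mul, mul_one] at hP
        have h79 : q ^ 7 + 1 ≤ (q ^ 3 + 1) ^ 3 := by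
          have : q ^ 7 ≤ q ^ 9 := Nat.pow_le_pow_right hq1 (by norm_num)
          have e : (q ^ 3 + 1) ^ 3 = q ^ 9 + (3 * q ^ 6 + 3 * q ^ 3) + 1 := by ring
          omega
        omega
      by_cases ho18 : od q r ∣ 18
      · left
        have l8 : P r (q ^ 8 - 1) = 1 := hone 8 fun hd => ho2 (by simpa using Nat.dvd_gcd ho18 hd)
        have l10 : P r (q ^ 10 - 1) = 1 := hone 10 fun hd => ho2 (by simpa using Nat.dvd_gcd ho18 hd)
        have l12 : P r (q ^ 12 - 1) = 1 := hone 12 fun hd => ho6 (by simpa using Nat.dvd_gcd ho18 hd)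
        have l14 : P r (q ^ 14 - 1) = 1 := hone 14 ho14
        rw [k1, l6, l8, l10, l12, l14, one_mul, one_mul, one_mul, one_mul, one_mul, one_mul] at hP
        have h79 : q ^ 9 + 1 ≤ (q ^ 3 + 1) ^ 3 := by
          have e : (q ^ 3 + 1) ^ 3 = q ^ 9 + (3 * q ^ 6 + 3 * q ^ 3) + 1 := by ring
          omega
        omega
      right
      have l14 : P r (q ^ 14 - 1) = 1 := hone 14 ho14
      have l18 : P r (q ^ 18 - 1) = 1 := hone 18 ho18
      by_cases ho10 : od q r ∣ 10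
      · have l8 : P r (q ^ 8 - 1) = 1 := hone 8 fun hd => ho2 (by simpa using Nat.dvd_gcd ho10 hd)
        have l12 : P r (q ^ 12 - 1) = 1 := hone 12 fun hd => ho2 (by simpa using Nat.dvd_gcd ho10 hd)
        rw [k1, l6, l8, l12, l14, l18, one_mul, one_mul, one_mul, mul_one, mul_one, mul_one] at hP
        have h79 : q ^ 5 + 1 ≤ (q ^ 4 + 1) * (q ^ 6 + 1) := by
          have : q ^ 5 ≤ q ^ 10 := Nat.pow_le_pow_right hq1 (by norm_num)
          have e : (q ^ 4 + 1) * (q ^ 6 + 1) = q ^ 10 + (q ^ 4 + q ^ 6) + 1 := by ring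
          omega
        omega
      · have l10 : P r (q ^ 10 - 1) = 1 := hone 10 ho10
        rw [k1, l6, l10, l14, l18, one_mul, one_mul, mul_one, mul_one, mul_one] at hP
        have := Nat.mul_le_mul k4 k6
        omega

/-! ### the numbers -/

theorem ov_inj {i j : Fin 4} (h : ov i = ov j) : i = j := by
  revert i j; decide

theorem EN_ne {q : ℕ} (hq : 2 ≤ q) : EN q ≠ 0 := by
  have hn : ∀ n, n ≠ 0 → q ^ n - 1 ≠ 0 := by
    intro n hn
    have := Nat.one_lt_pow hn (show 1 < q by omega)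
    omega
  have h2 := hn 2 (by norm_num)
  have h6 := hn 6 (by norm_num)
  have h8 := hn 8 (by norm_num)
  have h10 := hn 10 (by norm_num)
  have h12 := hn 12 (by norm_num)
  have h14 := hn 14 (by norm_num)
  have h18 := hn 18 (by norm_num)
  have h63 : q ^ 63 ≠ 0 := by positivity
  rw [EN]
  positivity

theorem EN_le {q : ℕ} : EN q ≤ q ^ 133 := by
  have hn : ∀ n, q ^ n - 1 ≤ q ^ n := fun n => Nat.sub_le _ _
  rw [EN]
  calc _ ≤ q ^ 63 * (q ^ 2 * q ^ 6 * q ^ 8 * q ^ 10 * q ^ 12 * q ^ 14 * q ^ 18) := by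
        gcongr <;> exact hn _
    _ = q ^ 133 := by ring

/-- `Φ(q)` divides the order of the torus, up to `gv` -/
theorem Nv_eq {q : ℕ} (hq : 2 ≤ q) (i : Fin 4) :
    Nv q i = (![q - 1, q - 1, q + 1, q + 1] : Fin 4 → ℕ) i * PN q i := by
  have h1 : 1 ≤ q := by omega
  have e : (Nv q i : ℤ) = (((![q - 1, q - 1, q + 1, q + 1] : Fin 4 → ℕ) i * PN q i : ℕ) : ℤ) := by
    rw [Nat.cast_mul, PN_cast h1, Nv_cast h1]
    congr 1
    fin_cases i
    · show (q : ℤ) - 1 = ((q - 1 : ℕ) : ℤ)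
      rw [Nat.cast_sub h1]; rfl
    · show (q : ℤ) - 1 = ((q - 1 : ℕ) : ℤ)
      rw [Nat.cast_sub h1]; rfl
    · show (q : ℤ) + 1 = ((q + 1 : ℕ) : ℤ)
      push_cast; rfl
    · show (q : ℤ) + 1 = ((q + 1 : ℕ) : ℤ)
      push_cast; rfl
  exact_mod_cast e

theorem big_aux {q P a b c : ℕ} (hq : 4 ≤ q)
    (hP : P ≤ 512 * (q + 1) ^ 7 ∨ P ≤ (q ^ 3 + 1) ^ 3 ∨ P ≤ (q ^ 4 + 1) * (q ^ 6 + 1)) (ha : 3 * q ^ 6 ≤ 28 * a)
    (hb : 3 * q ^ 6 ≤ 28 * b) (hc : 3 * q ^ 6 ≤ 28 * c) : 2 * P < a * b * c := by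
  have h1 : 27 * q ^ 18 ≤ 21952 * (a * b * c) := by
    calc 27 * q ^ 18 = (3 * q ^ 6) * (3 * q ^ 6) * (3 * q ^ 6) := by ring
      _ ≤ (28 * a) * (28 * b) * (28 * c) := Nat.mul_le_mul (Nat.mul_le_mul ha hb) hc
      _ = _ := by ring
  have key : 21952 * (2 * P) < 27 * q ^ 18 := by
    have hq0 : 0 < q := by omega
    rcases hP with hP | hP | hP
    · have h2 : 4 ^ 7 * (q + 1) ^ 7 ≤ 5 ^ 7 * q ^ 7 := by
        rw [← mul_pow, ← mul_pow]
        exact Nat.pow_le_pow_left (by omega) 7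
      have h3 : 4 ^ 11 ≤ q ^ 11 := Nat.pow_le_pow_left hq 11
      have h4 : 4 ^ 11 * q ^ 7 ≤ q ^ 18 := by
        calc 4 ^ 11 * q ^ 7 ≤ q ^ 11 * q ^ 7 := Nat.mul_le_mul_right _ h3
          _ = q ^ 18 := by ring
      have h5 : 0 < q ^ 7 := by positivity
      norm_num at h2 h4
      omega
    · have h2 : 64 * (q ^ 3 + 1) ≤ 65 * q ^ 3 := by
        have := Nat.pow_le_pow_left hq 3
        norm_num at this
        omega
      have h3 : 64 ^ 3 * (q ^ 3 + 1) ^ 3 ≤ 65 ^ 3 * q ^ 9 := by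
        have := Nat.pow_le_pow_left h2 3
        rw [mul_pow, mul_pow, ← pow_mul] at this
        exact this
      have h4 : 4 ^ 9 * q ^ 9 ≤ q ^ 18 := by
        calc 4 ^ 9 * q ^ 9 ≤ q ^ 9 * q ^ 9 := Nat.mul_le_mul_right _ (Nat.pow_le_pow_left hq 9)
          _ = q ^ 18 := by ring
      have h5 : 0 < q ^ 9 := by positivity
      norm_num at h3 h4
      omega
    · have h2 : q ^ 4 + 1 ≤ 2 * q ^ 4 := by
        have : 0 < q ^ 4 := by positivity
        omega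
      have h3 : q ^ 6 + 1 ≤ 2 * q ^ 6 := by
        have : 0 < q ^ 6 := by positivity
        omega
      have h4 : P ≤ 4 * q ^ 10 := by
        refine hP.trans ((Nat.mul_le_mul h2 h3).trans (le_of_eq ?_))
        ring
      have h6 : 4 ^ 8 * q ^ 10 ≤ q ^ 18 := by
        calc 4 ^ 8 * q ^ 10 ≤ q ^ 8 * q ^ 10 := Nat.mul_le_mul_right _ (Nat.pow_le_pow_left hq 8)
          _ = q ^ 18 := by ring
      have h5 : 0 < q ^ 10 := by positivity
      norm_num at h6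
      omega
  have h2 : 21952 * (2 * P) < 21952 * (a * b * c) := lt_of_lt_of_le key h1
  exact Nat.lt_of_mul_lt_mul_left h2

/-- **The numbers of `E7(q)`.** -/
theorem nums_E7 {p f M : ℕ} (hp : p.Prime) (hf : 1 ≤ f) (hq : 4 ≤ p ^ f)
    (hM : Nat.gcd 2 (p ^ f - 1) * M = EN (p ^ f)) : Nums p M (mv (p ^ f)) (tv (p ^ f)) := by
  obtain ⟨q, hqe⟩ : ∃ q, q = p ^ f := ⟨_, rfl⟩
  have hprq : ∀ r : ℕ, r.Prime → r ≠ p → ¬ r ∣ q := by
    intro r hr hrp hd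
    rw [hqe] at hd
    exact hrp ((Nat.prime_dvd_prime_iff_eq hr hp).1 (hr.dvd_of_dvd_pow hd))
  have hpq : p ∣ q := by rw [hqe]; exact dvd_pow_self _ (by omega)
  rw [← hqe] at hq hM ⊢
  have hq2 : 2 ≤ q := by omega
  have hq1 : 1 ≤ q := by omega
  have hg0 : Nat.gcd 2 (q - 1) ≠ 0 := (Nat.gcd_pos_of_pos_left _ two_pos).ne'
  have hM0 : M ≠ 0 := by rintro rfl; rw [mul_zero] at hM; exact EN_ne hq2 hM.symm
  have hcopod : ∀ {i : Fin 4} {n : ℕ}, (∀ r : ℕ, r.Prime → od q r = ov i → ¬ r ∣ n) → (mv q i).Coprime n := by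
    intro i n h
    by_contra hc
    obtain ⟨r, hr, h1, h2⟩ := Nat.Prime.not_coprime_iff_dvd.1 hc
    exact h r hr (od_of_mv hq2 hr h1) h2
  have h0v : ∀ i, 0 < ov i := by decide
  have hodd : ∀ i, (mv q i).Coprime (Nat.gcd 2 (q - 1)) := by
    intro i
    refine hcopod fun r hr ho hd => ?_
    have := r_ge hr ho
    have := Nat.le_of_dvd two_pos (hd.trans (Nat.gcd_dvd_left _ _))
    omega
  have hmPN : ∀ i, mv q i ∣ PN q i := fun i => ⟨gv q i, by rw [mul_comm]; exact (mv_mul hq1 i).symm⟩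
  have hmt : ∀ i, mv q i ∣ tv q i := by
    intro i
    refine (hodd i).dvd_of_dvd_mul_left ?_
    rw [tv_mul hq2, Nv_eq hq2]
    exact (hmPN i).mul_left _
  have htM : ∀ i, M = tv q i * RS q i := by
    intro i
    have h1 := EN_eq hq2 i
    rw [← hM, ← tv_mul hq2 i, mul_assoc] at h1
    exact Nat.eq_of_mul_eq_mul_left (Nat.pos_of_ne_zero hg0) h1
  have hmv1 : ∀ i, 400 < mv q i := by
    intro i
    have h1 := le_mv hq i
    have h2 := Nat.pow_le_pow_left hq 6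
    norm_num at h2
    omega
  refine ⟨hp, Nat.pos_of_ne_zero hM0, fun i => by have := hmv1 i; omega, ?_, ?_, hmt, fun i => ⟨_, htM i⟩, ?_, ?_, ?_, ?_⟩
  · intro i j hij
    refine hcopod fun r hr ho hd => hij (ov_inj ?_)
    rw [← ho, ← od_of_mv hq2 hr hd]
  · intro i
    refine hcopod fun r hr ho hd => ?_
    have : r = p := (Nat.prime_dvd_prime_iff_eq hr hp).1 hd
    subst this
    exact H378.RegFin.not_dvd_q hr ho (h0v i) hpq
  · intro i
    refine hcopod fun r hr ho hd => ?_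
    -- `M / m = (t / m) * RS`
    have h1 : M / mv q i = tv q i / mv q i * RS q i := by
      rw [htM i, Nat.mul_comm, Nat.mul_div_assoc _ (hmt i), Nat.mul_comm]
    rw [h1] at hd
    rcases hr.dvd_mul.1 hd with h2 | h2
    · -- `t / m` divides `(q ∓ 1) gv`
      have h3 : Nat.gcd 2 (q - 1) * (tv q i / mv q i) = (![q - 1, q - 1, q + 1, q + 1] : Fin 4 → ℕ) i * gv q i := by
        have h4 : mv q i * (Nat.gcd 2 (q - 1) * (tv q i / mv q i)) =
            mv q i * ((![q - 1, q - 1, q + 1, q + 1] : Fin 4 → ℕ) i * gv q i) := by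
          calc _ = Nat.gcd 2 (q - 1) * (mv q i * (tv q i / mv q i)) := by ring
            _ = Nv q i := by rw [Nat.mul_div_cancel' (hmt i), tv_mul hq2]
            _ = (![q - 1, q - 1, q + 1, q + 1] : Fin 4 → ℕ) i * (gv q i * mv q i) := by rw [mv_mul hq1, Nv_eq hq2]
            _ = _ := by ring
        exact Nat.eq_of_mul_eq_mul_left (by have := hmv1 i; omega) h4
      have h5 : r ∣ (![q - 1, q - 1, q + 1, q + 1] : Fin 4 → ℕ) i * gv q i := h3 ▸ h2.mul_left _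
      have hr19 := r_ge hr ho
      rcases hr.dvd_mul.1 h5 with h6 | h6
      · have h7 : r ∣ q ^ 2 - 1 := by
          have e : q ^ 2 - 1 = (q - 1) * (q + 1) := by
            have h3 : 1 ≤ q ^ 2 := Nat.one_le_pow _ _ hq1
            zify [h3, hq1]; ring
          rw [e]
          fin_cases i
          · exact Dvd.dvd.mul_right h6 _
          · exact Dvd.dvd.mul_right h6 _
          · exact Dvd.dvd.mul_left h6 _
          · exact Dvd.dvd.mul_left h6 _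
        have h8 := (dvd_nat_iff hq1 2).1 h7
        rw [ho] at h8
        revert h8
        clear * -
        revert i
        decide
      · have h7 := gv_le hq1 i
        have h8 : 0 < gv q i := by
          rcases gv_eq hq1 i with ⟨h, -⟩ | ⟨h, -⟩ <;> rw [h]
          · exact (n0_prime i).pos
          · exact one_pos
        have := Nat.le_of_dvd h8 h6
        omega
    · exact not_dvd_RS hq2 hr ho h2
  · by_contra hc
    obtain ⟨r, hr, h1, h2⟩ := Nat.Prime.not_coprime_iff_dvd.1 hc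
    exact absurd (sg_eq hq2 hr h1 h2) (by decide)
  · intro r hr hrp i
    have hP := P_le_EN (show 3 ≤ q by omega) hr (hprq r hr hrp) hM
    have l0 := le_mv hq 0
    have l1 := le_mv hq 1
    have l2 := le_mv hq 2
    have l3 := le_mv hq 3
    have hmi : 0 < mv q i := by have := hmv1 i; omega
    have hPe : ordProj[r] M = P r M := rfl
    rw [hPe]
    fin_cases i
    · calc 2 * P r M * mv q 0 < mv q 1 * mv q 2 * mv q 3 * mv q 0 := by
            exact Nat.mul_lt_mul_of_pos_right (big_aux hq hP l1 l2 l3) hmi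
        _ = _ := by ring
    · calc 2 * P r M * mv q 1 < mv q 0 * mv q 2 * mv q 3 * mv q 1 := by
            exact Nat.mul_lt_mul_of_pos_right (big_aux hq hP l0 l2 l3) hmi
        _ = _ := by ring
    · calc 2 * P r M * mv q 2 < mv q 0 * mv q 1 * mv q 3 * mv q 2 := by
            exact Nat.mul_lt_mul_of_pos_right (big_aux hq hP l0 l1 l3) hmi
        _ = _ := by ring
    · exact Nat.mul_lt_mul_of_pos_right (big_aux hq hP l0 l1 l2) hmi
  · intro i j _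
    have h1 : Nat.log 2 M ≤ 133 * q := by
      have h2 : M ≤ q ^ 133 := by
        refine le_trans ?_ EN_le
        rw [← hM]
        exact Nat.le_mul_of_pos_left _ (Nat.pos_of_ne_zero hg0)
      have h3 : q ≤ 2 ^ q := Nat.lt_two_pow_self.le
      have h4 : M ≤ 2 ^ (133 * q) := by
        refine h2.trans ((Nat.pow_le_pow_left h3 133).trans (le_of_eq ?_))
        rw [← pow_mul, mul_comm]
      calc Nat.log 2 M ≤ Nat.log 2 (2 ^ (133 * q)) := Nat.log_mono_right h4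
        _ = 133 * q := Nat.log_pow (by norm_num) _
    have h2 : 9 * q ^ 12 ≤ 784 * (mv q i * mv q j) := by
      calc 9 * q ^ 12 = (3 * q ^ 6) * (3 * q ^ 6) := by ring
        _ ≤ (28 * mv q i) * (28 * mv q j) := Nat.mul_le_mul (le_mv hq i) (le_mv hq j)
        _ = _ := by ring
    have h3 : 4 ^ 11 * q ≤ q ^ 12 := by
      calc 4 ^ 11 * q ≤ q ^ 11 * q := Nat.mul_le_mul_right _ (Nat.pow_le_pow_left hq 11)
        _ = q ^ 12 := by ring
    norm_num at h3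
    omega

end Cfsg.Agent.H137.TC7
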