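import Cfsg.Agent.H129.CycRow
import Cfsg.Agent.H137.TC7.Base

/-!
# Types from cyclic tori (helper137)
-/

set_option autoImplicit false

namespace Cfsg.Agent.H137.TC7

open Subgroup Cfsg.Agent.H129.CycT

universe u

variable {L : Type u} [Group L] [Finite L] {p M : ℕ} {m t : Fin 4 → ℕ}

/-- the centraliser of `y` has order `t` and is abelian, if the torus has this property -/
theorem cent_of_torus {T : Subgroup L} (hc : IsCyclic ↥T) {r : ℕ} (hr : r.Prime) (hrT : r ∣ Nat.card ↥T)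
    (hcent : ∀ y ∈ T, orderOf y = r → Subgroup.centralizer {y} ≤ T) {y : L} (hy : orderOf y = r) :
    Nat.card ↥(centralizer ({y} : Set L)) = Nat.card ↥T ∧
      ∀ a ∈ centralizer ({y} : Set L), ∀ b ∈ centralizer ({y} : Set L), a * b = b * a := by
  obtain ⟨g, -, hg⟩ := centralizer_conj hc hr hrT hcent hy
  refine ⟨Nat.card_congr ⟨fun z => ⟨g * z * g⁻¹, (hg z).1 z.2⟩, fun z => ⟨g⁻¹ * z * g, (hg _).2 ?_⟩, fun z => ?_,
    fun z => ?_⟩, fun a ha b hb => ?_⟩
  · have e : g * (g⁻¹ * (z : L) * g) * g⁻¹ = z := by group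
    rw [e]; exact z.2
  · exact Subtype.ext (by simp [mul_assoc])
  · exact Subtype.ext (by simp [mul_assoc])
  · have h1 := (IsCyclic.commGroup (α := T)).mul_comm ⟨_, (hg a).1 ha⟩ ⟨_, (hg b).1 hb⟩
    have h2 : g * a * g⁻¹ * (g * b * g⁻¹) = g * b * g⁻¹ * (g * a * g⁻¹) := congrArg Subtype.val h1
    have h3 : g * (a * b) * g⁻¹ = g * (b * a) * g⁻¹ := by
      calc g * (a * b) * g⁻¹ = g * a * g⁻¹ * (g * b * g⁻¹) := by group
        _ = g * b * g⁻¹ * (g * a * g⁻¹) := h2
        _ = _ := by group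
    exact mul_left_cancel (mul_right_cancel h3)

/-- **Types from tori.** -/
theorem Types.of_tori (hN : Nums p M m t) (hM : Nat.card L = M)
    (hT : ∀ i, ∃ T : Subgroup L, IsCyclic ↥T ∧ Nat.card ↥T = t i ∧
      ∀ r : ℕ, r.Prime → r ∣ m i → ∀ y ∈ T, orderOf y = r → Subgroup.centralizer {y} ≤ T)
    (hone : ∀ i j, i ≠ j → ∀ (r s : ℕ), r.Prime → s.Prime → r ∣ m i → s ∣ m j → ∀ x y z : L, orderOf y = r →
      orderOf z = s → x * y = y * x → x * z = z * x → x = 1) : Types L p M m t := by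
  have hC : ∀ i (r : ℕ), r.Prime → r ∣ m i → ∀ y : L, orderOf y = r →
      Nat.card ↥(centralizer ({y} : Set L)) = t i ∧
      ∀ a ∈ centralizer ({y} : Set L), ∀ b ∈ centralizer ({y} : Set L), a * b = b * a := by
    intro i r hr hrm y hy
    obtain ⟨T, h1, h2, h3⟩ := hT i
    obtain ⟨h4, h5⟩ := cent_of_torus h1 hr (h2 ▸ hrm.trans (hN.dvd_t i)) (h3 r hr hrm) hy
    exact ⟨h4.trans h2, h5⟩
  have hci : ∀ g : L, Nat.card ↥(centralizer ({g} : Set L)) * cs g = M := fun g => by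
    rw [← hM]; exact card_mul_index _
  -- an element of order `r` commuting with `g`
  have key : ∀ (g : L) i (r : ℕ), r.Prime → r ∣ m i → r ∣ Nat.card ↥(centralizer ({g} : Set L)) →
      (∃ y : L, orderOf y = r ∧ g * y = y * g) ∧ t i ∣ Nat.card ↥(centralizer ({g} : Set L)) := by
    intro g i r hr hrm hrC
    have := Fact.mk hr
    obtain ⟨⟨y, hy⟩, hyr⟩ := exists_prime_orderOf_dvd_card' r hrC
    rw [Subgroup.orderOf_mk] at hyr
    have hgy : y * g = g * y := mem_centralizer_singleton_iff.1 hy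
    refine ⟨⟨y, hyr, hgy.symm⟩, ?_⟩
    obtain ⟨h1, h2⟩ := hC i r hr hrm y hyr
    rw [← h1]
    refine card_dvd_of_le fun a ha => ?_
    rw [mem_centralizer_singleton_iff]
    exact h2 a ha g (mem_centralizer_singleton_iff.2 hgy.symm)
  have hcop : ∀ (g : L) i, t i ∣ Nat.card ↥(centralizer ({g} : Set L)) → (m i).Coprime (cs g) := by
    intro g i hti
    refine (hN.full i).coprime_dvd_right ?_
    have h1 := (hN.dvd_t i).trans hti
    obtain ⟨a, ha⟩ := h1
    have h2 := hci g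
    rw [ha, mul_assoc] at h2
    rw [← h2, Nat.mul_div_cancel_left _ (by have := hN.one_lt i; omega)]
    exact dvd_mul_left _ _
  have hdvd : ∀ (g : L) i, t i ∣ Nat.card ↥(centralizer ({g} : Set L)) → cs g * t i ∣ M := by
    intro g i hti
    rw [← hci g, mul_comm]
    exact mul_dvd_mul_right hti _
  have hprime : ∀ (g : L) i, (m i).Coprime (cs g) →
      ∃ r : ℕ, r.Prime ∧ r ∣ m i ∧ r ∣ Nat.card ↥(centralizer ({g} : Set L)) := by
    intro g i hc
    obtain ⟨r, hr, hrm⟩ := Nat.exists_prime_and_dvd (hN.one_lt i).ne'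
    refine ⟨r, hr, hrm, ?_⟩
    have h1 : r ∣ Nat.card ↥(centralizer ({g} : Set L)) * cs g := by
      rw [hci]; exact (hrm.trans (hN.dvd_t i)).trans (hN.t_dvd i)
    rcases hr.dvd_mul.1 h1 with h2 | h2
    · exact h2
    · exfalso
      have h3 := Nat.dvd_gcd hrm h2
      rw [Nat.coprime_iff_gcd_eq_one.1 hc] at h3
      exact hr.one_lt.ne' (Nat.dvd_one.1 h3)
  have hd : ∀ g : L, cs g ∣ M := fun g => ⟨_, by rw [mul_comm]; exact (hci g).symm⟩
  refine { hN with dvd := hd, typ := ?_, one_type := ?_, tor := ?_, ex := ?_ }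
  · intro g _ i
    by_cases hc : (m i).Coprime (Nat.card ↥(centralizer ({g} : Set L)))
    · left
      refine hc.dvd_of_dvd_mul_left ?_
      rw [hci]
      exact (hN.dvd_t i).trans (hN.t_dvd i)
    · right
      obtain ⟨r, hr, hrm, hrC⟩ := Nat.Prime.not_coprime_iff_dvd.1 hc
      exact hcop g i (key g i r hr hrm hrC).2
  · intro g hg i j hi hj
    by_contra hij
    obtain ⟨r, hr, hrm, hrC⟩ := hprime g i hi
    obtain ⟨s, hs, hsm, hsC⟩ := hprime g j hj
    obtain ⟨⟨y, hy, hgy⟩, -⟩ := key g i r hr hrm hrC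
    obtain ⟨⟨z, hz, hgz⟩, -⟩ := key g j s hs hsm hsC
    exact hg (hone i j hij r s hr hs hrm hsm g y z hy hz hgy hgz)
  · intro g _ i hi
    obtain ⟨r, hr, hrm, hrC⟩ := hprime g i hi
    exact hdvd g i (key g i r hr hrm hrC).2
  · intro i
    obtain ⟨r, hr, hrm⟩ := Nat.exists_prime_and_dvd (hN.one_lt i).ne'
    have := Fact.mk hr
    have hrL : r ∣ Nat.card L := by rw [hM]; exact (hrm.trans (hN.dvd_t i)).trans (hN.t_dvd i)
    obtain ⟨y, hy⟩ := exists_prime_orderOf_dvd_card' r hrL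
    refine ⟨y, ?_, ?_⟩
    · rintro rfl
      rw [orderOf_one] at hy
      exact hr.one_lt.ne hy
    · rw [mul_comm, ← (hC i r hr hrm y hy).1]
      exact hci y

end Cfsg.Agent.H137.TC7
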