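import Cfsg.Agent.H378.RegE7
import Cfsg.Agent.H129.CycRow
import Cfsg.Agent.H129.DataE7m
import Cfsg.Agent.H137.TC7.Base

/-!
# The four cyclic tori of E7(q) (helper137)

`N i = q⁷ - 1, (q - 1)(q⁶ + q³ + 1), q⁷ + 1, (q + 1)(q⁶ - q³ + 1)`, `t i = N i / (2, q - 1)`, and `q` of order
`7, 9, 14, 18` modulo `r`: the centralisers of the elements of order `r` are conjugate to a cyclic group of order `t i`.
-/

set_option autoImplicit false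
set_option linter.unusedSectionVars false

namespace Cfsg.Agent.H137.TC7

open CoxeterSystem Cfsg Cfsg.Lie Cfsg.Lie.ChevalleyDatum
open Cfsg.Agent.ChevalleyStructure Cfsg.Agent.ChevalleyStructure.Elts Cfsg.Agent.ChevalleyStructure.CoxeterGeom
  Cfsg.Agent.ChevalleyStructure.CoxeterGeomTypes Cfsg.Agent.ChevalleyStructure.NPerm
open Cfsg.Agent.Tits.Roots Cfsg.Agent.Tits.Core Cfsg.Agent.Nodes Cfsg.Agent.Nodes.Reps Cfsg.Agent.Nodes.BNOf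
  Cfsg.Agent.Nodes.RGDChev Cfsg.Agent.Nodes.Bruhat
open Cfsg.Agent.H129 Cfsg.Agent.H129.TorusChar Cfsg.Agent.H129.TorusTw Cfsg.Agent.H129.WData Cfsg.Agent.H129.TorAct
  Cfsg.Agent.H129.RealT Cfsg.Agent.H129.CycT Cfsg.Agent.H378.ExcNear Cfsg.Agent.H378.RegFin Cfsg.Agent.H378.ExcAdj
  Cfsg.Agent.H378

universe u

/-- the orders of `q` modulo the primes -/
def ov : Fin 4 → ℕ := ![7, 9, 14, 18]

/-- the determinants -/
def Nv (q : ℕ) : Fin 4 → ℕ := ![q ^ 7 - 1, (q - 1) * (q ^ 6 + q ^ 3 + 1), q ^ 7 + 1, (q + 1) * (q ^ 6 - q ^ 3 + 1)]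

/-- the values of the cyclotomic polynomials -/
def Ph (q : ℕ) : Fin 4 → ℤ := ![1 + (q : ℤ) + (q : ℤ) ^ 2 + (q : ℤ) ^ 3 + (q : ℤ) ^ 4 + (q : ℤ) ^ 5 + (q : ℤ) ^ 6,
  1 + (q : ℤ) ^ 3 + (q : ℤ) ^ 6,
  1 - (q : ℤ) + (q : ℤ) ^ 2 - (q : ℤ) ^ 3 + (q : ℤ) ^ 4 - (q : ℤ) ^ 5 + (q : ℤ) ^ 6,
  1 - (q : ℤ) ^ 3 + (q : ℤ) ^ 6]

/-- the orders of the tori -/
def tv (q : ℕ) (i : Fin 4) : ℕ := Nv q i / Nat.gcd 2 (q - 1)

theorem dvd_Ph {q r : ℕ} (hr : r.Prime) {i : Fin 4} (h : od q r = ov i) : (r : ℤ) ∣ Ph q i := by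
  fin_cases i
  · have h1 := CycTab.dvd7 hr (q := q) h
    rw [CycTab.pv7] at h1
    show (r : ℤ) ∣ 1 + (q : ℤ) + (q : ℤ) ^ 2 + (q : ℤ) ^ 3 + (q : ℤ) ^ 4 + (q : ℤ) ^ 5 + (q : ℤ) ^ 6
    have e : 1 + (q : ℤ) + (q : ℤ) ^ 2 + (q : ℤ) ^ 3 + (q : ℤ) ^ 4 + (q : ℤ) ^ 5 + (q : ℤ) ^ 6 =
      (q : ℤ) ^ 6 + q ^ 5 + q ^ 4 + q ^ 3 + q ^ 2 + q + 1 := by ring
    rw [e]; exact h1
  · have h1 := CycTab.dvd9 hr (q := q) h
    rw [CycTab.pv9] at h1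
    show (r : ℤ) ∣ 1 + (q : ℤ) ^ 3 + (q : ℤ) ^ 6
    have e : 1 + (q : ℤ) ^ 3 + (q : ℤ) ^ 6 = (q : ℤ) ^ 6 + q ^ 3 + 1 := by ring
    rw [e]; exact h1
  · have h1 := CycTab.dvd14 hr (q := q) h
    rw [CycTab.pv14] at h1
    show (r : ℤ) ∣ 1 - (q : ℤ) + (q : ℤ) ^ 2 - (q : ℤ) ^ 3 + (q : ℤ) ^ 4 - (q : ℤ) ^ 5 + (q : ℤ) ^ 6
    have e : 1 - (q : ℤ) + (q : ℤ) ^ 2 - (q : ℤ) ^ 3 + (q : ℤ) ^ 4 - (q : ℤ) ^ 5 + (q : ℤ) ^ 6 =
      (q : ℤ) ^ 6 - q ^ 5 + q ^ 4 - q ^ 3 + q ^ 2 - q + 1 := by ring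
    rw [e]; exact h1
  · have h1 := CycTab.dvd18 hr (q := q) h
    rw [CycTab.pv18] at h1
    show (r : ℤ) ∣ 1 - (q : ℤ) ^ 3 + (q : ℤ) ^ 6
    have e : 1 - (q : ℤ) ^ 3 + (q : ℤ) ^ 6 = (q : ℤ) ^ 6 - q ^ 3 + 1 := by ring
    rw [e]; exact h1

theorem Nv_cast {q : ℕ} (hq : 1 ≤ q) (i : Fin 4) : (Nv q i : ℤ) =
    (![(q : ℤ) - 1, (q : ℤ) - 1, (q : ℤ) + 1, (q : ℤ) + 1] : Fin 4 → ℤ) i * Ph q i := by
  have h0 : q ^ 3 ≤ q ^ 6 := Nat.pow_le_pow_right hq (by norm_num)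
  have h1 : 1 ≤ q ^ 7 := Nat.one_le_pow _ _ hq
  fin_cases i
  · show ((q ^ 7 - 1 : ℕ) : ℤ) = ((q : ℤ) - 1) *
      (1 + (q : ℤ) + (q : ℤ) ^ 2 + (q : ℤ) ^ 3 + (q : ℤ) ^ 4 + (q : ℤ) ^ 5 + (q : ℤ) ^ 6)
    push_cast [Nat.cast_sub h1]; ring
  · show (((q - 1) * (q ^ 6 + q ^ 3 + 1) : ℕ) : ℤ) = ((q : ℤ) - 1) * (1 + (q : ℤ) ^ 3 + (q : ℤ) ^ 6)
    push_cast [Nat.cast_sub hq]; ring
  · show ((q ^ 7 + 1 : ℕ) : ℤ) = ((q : ℤ) + 1) *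
      (1 - (q : ℤ) + (q : ℤ) ^ 2 - (q : ℤ) ^ 3 + (q : ℤ) ^ 4 - (q : ℤ) ^ 5 + (q : ℤ) ^ 6)
    push_cast; ring
  · show (((q + 1) * (q ^ 6 - q ^ 3 + 1) : ℕ) : ℤ) = ((q : ℤ) + 1) * (1 - (q : ℤ) ^ 3 + (q : ℤ) ^ 6)
    push_cast [Nat.cast_sub h0]; ring

theorem r_dvd_Nv {q r : ℕ} (hq : 1 ≤ q) (hr : r.Prime) {i : Fin 4} (h : od q r = ov i) : r ∣ Nv q i := by
  have h1 := dvd_Ph hr h
  have h2 : (r : ℤ) ∣ (Nv q i : ℤ) := by rw [Nv_cast hq]; exact h1.mul_left _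
  exact Int.natCast_dvd_natCast.1 h2

/-- the primes are large -/
theorem r_ge {q r : ℕ} (hr : r.Prime) {i : Fin 4} (h : od q r = ov i) : 19 ≤ r := by
  have h7 : ov i = 7 ∨ ov i = 9 ∨ ov i = 14 ∨ ov i = 18 := by
    fin_cases i <;> simp [ov]
  have h0 : 0 < ov i := by omega
  have h1 := mod_of_od hr h h0
  have h2 := hr.two_le
  have h3 : r % 2 = 1 := by
    rcases hr.eq_two_or_odd with h3 | h3
    · subst h3
      rcases h7 with h7 | h7 | h7 | h7 <;> rw [h7] at h1 <;> revert h1 <;> decide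
    · exact h3
  by_contra hlt
  push Not at hlt
  rcases h7 with h7 | h7 | h7 | h7 <;> rw [h7] at h1
  all_goals
    interval_cases r <;> first
      | omega
      | (exact absurd hr (by norm_num))

theorem not_dvd_W {q r : ℕ} (hr : r.Prime) {i : Fin 4} (h : od q r = ov i) :
    ¬ r ∣ Nat.card CoxeterMatrix.E₇.Group := by
  have := r_ge hr h
  exact not_dvd_W7 hr (by omega) (by omega) (by omega) (by omega)

variable {F : Type u} [Field F] [Fintype F] {q : ℕ}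

/-- a torus from the data -/
theorem exists_torus (hq : Fintype.card F = q) {A : Mat 7} (hA : ∀ i j, A i j = cartanOf chevE7 7 i j)
    {L : List (Fin 7 × Mat 7)} (hL : ChainOK A L)
    {V B : Mat 7} {c : Fin 7 → ℤ} (hcyc : CycOK 7 (hd L) V B c) {m : ℕ} {R : Fin m → Fin 7 → ℤ} {prv dep : ℕ → ℕ}
    (hR : RootOK chevE7 7 (hd L) R prv dep) {N : ℕ} (hfN : fN c (q : ℤ) = N) (hqN : q.Coprime N) {o : ℕ}
    (hgood : ∀ r : ℕ, r.Prime → od q r = o → ¬ r ∣ Nat.card CoxeterMatrix.E₇.Group ∧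
      ∀ s, ¬ (r : ℤ) ∣ Gq B (q : ℤ) (R s)) :
    ∃ T : Subgroup ↥(chevE7.group F), IsCyclic ↥T ∧ Nat.card ↥T = N / Nat.gcd 2 (q - 1) ∧
      ∀ r : ℕ, r.Prime → od q r = o → ∀ y ∈ T, orderOf y = r → Subgroup.centralizer {y} ≤ T := by
  have := finite_W7
  have hq2 : 2 ≤ q := by rw [← hq]; exact Fintype.one_lt_card
  rcases Nat.even_or_odd q with he | ho
  · obtain ⟨T, h1, h2, h3, h4, -⟩ := UntwT.untw_T typeE7 CoxeterMatrix.E₇.toCoxeterSystem (by norm_num) hq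
      TorusChar.invC_E7 (by norm_num) hA hL hcyc hR hfN hqN (d := 1) (Or.inr ⟨rfl, sq_surj hq he⟩)
    have hg : Nat.gcd 2 (q - 1) = 1 := by
      rw [← Nat.coprime_iff_gcd_eq_one, Nat.coprime_two_left]
      obtain ⟨m, hm⟩ := he
      exact ⟨m - 1, by omega⟩
    refine ⟨T, h1, ?_, fun r hr ho y hy hyr => h4 r hr (hgood r hr ho).1 (hgood r hr ho).2 y hy hyr⟩
    rw [hg, Nat.div_one]
    rw [one_mul] at h3
    exact Nat.dvd_antisymm h2 h3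
  · obtain ⟨T, h1, h2, h3, -⟩ := HalfT.half_E7 hq ho typeE7 hA hL hcyc hR hfN hqN
    have hg : Nat.gcd 2 (q - 1) = 2 := by
      rw [Nat.gcd_eq_left]
      obtain ⟨m, hm⟩ := ho
      exact ⟨m, by omega⟩
    refine ⟨T, h1, ?_, fun r hr ho y hy hyr => h3 r hr (hgood r hr ho).1 (hgood r hr ho).2 y hy hyr⟩
    rw [hg, ← h2, Nat.mul_div_cancel_left _ (by norm_num)]

/-- **The four tori.** -/
theorem exists_T (hq : Fintype.card F = q) (i : Fin 4) :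
    ∃ T : Subgroup ↥(chevE7.group F), IsCyclic ↥T ∧ Nat.card ↥T = tv q i ∧
      ∀ r : ℕ, r.Prime → od q r = ov i → ∀ y ∈ T, orderOf y = r → Subgroup.centralizer {y} ≤ T := by
  have hq2 : 2 ≤ q := by rw [← hq]; exact Fintype.one_lt_card
  have hne : ∀ {r s : ℕ}, r.Prime → s.Prime → s < 19 → od q r = ov i → ¬ (r : ℤ) ∣ (s : ℤ) := by
    intro r s hr hs hs19 ho hd
    have h1 := r_ge hr ho
    have h2 := (Nat.prime_dvd_prime_iff_eq hr hs).1 (Int.natCast_dvd_natCast.1 hd)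
    omega
  have hone : ∀ {r : ℕ}, r.Prime → ¬ (r : ℤ) ∣ 1 := fun hr hd => not_one hr hd
  fin_cases i
  · have e : fN DataE7s.c (q : ℤ) = (Nv q 0 : ℕ) := by
      rw [DataE7s.fN_eq, Nv_cast (show 1 ≤ q by omega) 0]
      show _ = ((q : ℤ) - 1) * (1 + (q : ℤ) + (q : ℤ) ^ 2 + (q : ℤ) ^ 3 + (q : ℤ) ^ 4 + (q : ℤ) ^ 5 + (q : ℤ) ^ 6)
      ring
    refine exists_torus hq DataE7s.hA DataE7s.chainOK DataE7s.cycOK DataE7s.rootOK e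
      (coprime_of_neg (a := (q : ℤ) ^ 6) (by rw [← e, DataE7s.fN_eq]; ring)) (o := 7) fun r hr ho =>
        ⟨not_dvd_W hr (i := 0) ho, fun s hs => ?_⟩
    rcases DataE7s.dvd_of_G (dvd_Ph hr (i := 0) ho) s hs with h | h | h
    · exact hone hr h
    · exact hne hr Nat.prime_two (by norm_num) ho (by exact_mod_cast h)
    · exact hne hr (by norm_num : (7 : ℕ).Prime) (by norm_num) ho (by exact_mod_cast h)
  · have e : fN DataE7n.c (q : ℤ) = (Nv q 1 : ℕ) := by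
      rw [DataE7n.fN_eq, Nv_cast (show 1 ≤ q by omega) 1]
      show _ = ((q : ℤ) - 1) * (1 + (q : ℤ) ^ 3 + (q : ℤ) ^ 6)
      ring
    refine exists_torus hq DataE7n.hA DataE7n.chainOK DataE7n.cycOK DataE7n.rootOK e
      (coprime_of_neg (a := 1 - (q : ℤ) ^ 2 + (q : ℤ) ^ 3 - (q : ℤ) ^ 5 + (q : ℤ) ^ 6)
        (by rw [← e, DataE7n.fN_eq]; ring)) (o := 9) fun r hr ho =>
        ⟨not_dvd_W hr (i := 1) ho, fun s hs => ?_⟩
    rcases DataE7n.dvd_of_G (dvd_Ph hr (i := 1) ho) s hs with h | h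
    · exact hone hr h
    · exact hne hr Nat.prime_three (by norm_num) ho (by exact_mod_cast h)
  · have e : fN DataE7m.c (q : ℤ) = (Nv q 2 : ℕ) := by
      rw [DataE7m.fN_eq, Nv_cast (show 1 ≤ q by omega) 2]
      show _ = ((q : ℤ) + 1) * (1 - (q : ℤ) + (q : ℤ) ^ 2 - (q : ℤ) ^ 3 + (q : ℤ) ^ 4 - (q : ℤ) ^ 5 + (q : ℤ) ^ 6)
      ring
    refine exists_torus hq DataE7m.hA DataE7m.chainOK DataE7m.cycOK DataE7m.rootOK e
      (UntwData.coprime_of_eq (a := (q : ℤ) ^ 6) (by rw [← e, DataE7m.fN_eq]; ring)) (o := 14) fun r hr ho =>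
        ⟨not_dvd_W hr (i := 2) ho, fun s hs => ?_⟩
    rcases DataE7m.dvd_of_G (dvd_Ph hr (i := 2) ho) s hs with h | h | h
    · exact hone hr h
    · exact hne hr Nat.prime_two (by norm_num) ho (by exact_mod_cast h)
    · exact hne hr (by norm_num : (7 : ℕ).Prime) (by norm_num) ho (by exact_mod_cast h)
  · have e : fN DataE7h.c (q : ℤ) = (Nv q 3 : ℕ) := by
      rw [DataE7h.fN_eq, Nv_cast (show 1 ≤ q by omega) 3]
      show _ = ((q : ℤ) + 1) * (1 - (q : ℤ) ^ 3 + (q : ℤ) ^ 6)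
      ring
    refine exists_torus hq DataE7h.hA DataE7h.chainOK DataE7h.cycOK DataE7h.rootOK e
      (UntwData.coprime_of_eq (a := 1 - (q : ℤ) ^ 2 - (q : ℤ) ^ 3 + (q : ℤ) ^ 5 + (q : ℤ) ^ 6)
        (by rw [← e, DataE7h.fN_eq]; ring)) (o := 18) fun r hr ho =>
        ⟨not_dvd_W hr (i := 3) ho, fun s hs => ?_⟩
    rcases DataE7h.dvd_of_G (dvd_Ph hr (i := 3) ho) s hs with h | h
    · exact hone hr h
    · exact hne hr Nat.prime_three (by norm_num) ho (by exact_mod_cast h)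

end Cfsg.Agent.H137.TC7
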