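import Cfsg.Agent.H137.TC7.Fib
import Cfsg.Agent.H137.TC7.Tor
import Cfsg.Agent.H137.TC7.OfTori

/-!
# E7(q): an element commuting with elements of two types is trivial (helper137)
-/

set_option autoImplicit false
set_option linter.unusedSectionVars false

namespace Cfsg.Agent.H137.TC7

open CoxeterSystem Subgroup Cfsg Cfsg.Lie Cfsg.Lie.ChevalleyDatum
open Cfsg.Agent.ChevalleyStructure Cfsg.Agent.ChevalleyStructure.Elts Cfsg.Agent.ChevalleyStructure.CoxeterGeom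
  Cfsg.Agent.ChevalleyStructure.CoxeterGeomTypes Cfsg.Agent.ChevalleyStructure.NPerm
open Cfsg.Agent.Tits.Roots Cfsg.Agent.Tits.Core Cfsg.Agent.Nodes.Reps Cfsg.Agent.Nodes.BNOf
  Cfsg.Agent.Nodes.RGDChev Cfsg.Agent.Nodes.Bruhat
open Cfsg.Agent.KFacts.RgdField Cfsg.Agent.KFacts.RgdChevCoord Cfsg.Agent.BpExc.TorCent Cfsg.Agent.BpExc.TorChev
open Cfsg.Agent.BpExc.Tow Cfsg.Agent.BpExc.TowChev Cfsg.Agent.BpExc.FamExt Cfsg.Agent.BpExc.FamUntw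
  Cfsg.Agent.BpExc.FamInst Cfsg.Agent.BpExc.LangFr Cfsg.Agent.BpExc.FamField Cfsg.Agent.BpExc.RowsUntw
open Cfsg.Agent.GpExc.Field (glMap emb coe_emb glMap_xG emb_injective coe_glMap)
open Cfsg.Agent.H378.TorDual Cfsg.Agent.H378.TorChar Cfsg.Agent.H378.TorFin Cfsg.Agent.H378.LatRoot
  Cfsg.Agent.H378.Regular Cfsg.Agent.H378.ExcAdj Cfsg.Agent.H378.ExcNear Cfsg.Agent.H378.RegFin
  Cfsg.Agent.H378.LatCyc Cfsg.Agent.H378.LatCodim Cfsg.Agent.H378.LatPerp Cfsg.Agent.H378.RegE7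

universe u

open Polynomial in
theorem aeval_conj {l : ℕ} {T T' S : Module.End ℤ (Fin l → ℤ)} (h : ∀ x, T' (S x) = S (T x)) (P : ℤ[X])
    (x : Fin l → ℤ) : aeval T' P (S x) = S (aeval T P x) := by
  have hp : ∀ (n : ℕ) (x : Fin l → ℤ), (T' ^ n) (S x) = S ((T ^ n) x) := by
    intro n
    induction n with
    | zero => intro x; rfl
    | succ n ih => intro x; rw [pow_succ, pow_succ, Module.End.mul_apply, Module.End.mul_apply, h, ih]
  induction P using Polynomial.induction_on' with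
  | add p q hp hq => rw [map_add, LinearMap.add_apply, hp, hq, map_add, LinearMap.add_apply, map_add]
  | monomial n a =>
    rw [aeval_monomial, aeval_monomial, Module.End.mul_apply, Module.End.mul_apply, Module.algebraMap_end_apply,
      Module.algebraMap_end_apply, hp, map_smul]

section Reg

variable {W : Type*} [Group W] [Finite W] (cs : CoxeterSystem CoxeterMatrix.E₇ W)

include cs in
theorem not_dvd_card {q ℓ m : ℕ} (hℓ : ℓ.Prime) (h : od q ℓ = m) (hm : m = 7 ∨ m = 9 ∨ m = 14 ∨ m = 18) :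
    ¬ ℓ ∣ Nat.card W := by
  have hm0 : 0 < m := by omega
  have hm1 := mod_of_od hℓ h hm0
  have h2 := hℓ.two_le
  have h3 := Nat.le_of_dvd (by omega) hm1
  have hℓ8 : 8 < ℓ := by
    rcases hm with rfl | rfl | rfl | rfl
    · by_contra hcon
      have : ℓ = 8 := by omega
      rw [this] at hℓ
      exact absurd hℓ (by norm_num)
    all_goals omega
  intro h1
  have := le_of_dvd_card cs e7T.isCartan hℓ h1
  omega

theorem reg_E7 {q ℓ m : ℕ} (hℓ : ℓ.Prime) (h : od q ℓ = m) (hm : m = 7 ∨ m = 9 ∨ m = 14 ∨ m = 18)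
    (k : Type u) [Field k] (w : W) (χ : Ch 7 k) (hE : IsEig cs e7T.isCartan q ℓ w χ) (a : Fin 7 → ℤ)
    (ha : IsRoot cs e7T.isCartan a) : χ (Multiplicative.ofAdd a) ≠ 1 := by
  have : Fintype W := Fintype.ofFinite W
  have hm0 : 0 < m := by omega
  have hm1 := mod_of_od hℓ h hm0
  have h2 := hℓ.two_le
  have h3 := Nat.le_of_dvd (by omega) hm1
  refine ne_one_of_codim (cs := cs) (h := e7T.isCartan) hm0 ?_ ?_ hℓ (not_dvd_card cs hℓ h hm)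
    (fun h1 => by have := Nat.le_of_dvd hm0 h1; omega)
    (cyclotomic_dvd hℓ h hm0) hE.1 hE.2.1 hE.2.2 (fun i => ?_) ha
  · rcases hm with rfl | rfl | rfl | rfl <;> decide
  · rcases hm with rfl | rfl | rfl | rfl <;> decide
  · rw [card_perp_E7]
    rcases hm with rfl | rfl | rfl | rfl <;> omega

end Reg

/-- **An element of prime order `ℓ ∣ q ∓ 1` does not commute with elements of the types 7 (14) and 9 (18).** -/
theorem no_comm {F : Type u} [Field F] [Finite F] {ε : ℤ} (hε : ε * ε = 1) {ℓ ℓ₁ ℓ₂ m₁ m₂ : ℕ} (hℓ : ℓ.Prime)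
    (hd : (ℓ : ℤ) ∣ ((Nat.card F : ℕ) : ℤ) - ε) (hℓ₁ : ℓ₁.Prime) (hℓ₂ : ℓ₂.Prime) (h₁ : od (Nat.card F) ℓ₁ = m₁)
    (h₂ : od (Nat.card F) ℓ₂ = m₂) (hm₁ : m₁ = 7 ∨ m₁ = 14) (hm₂ : m₂ = 9 ∨ m₂ = 18) {x y z : ↥(chevE7.group F)}
    (hx : orderOf x = ℓ) (hy : orderOf y = ℓ₁) (hz : orderOf z = ℓ₂) (hxy : x * y = y * x) (hxz : x * z = z * x) :
    False := by
  let cs : CoxeterSystem CoxeterMatrix.E₇ CoxeterMatrix.E₇.Group := CoxeterMatrix.E₇.toCoxeterSystem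
  have := finite_W e7T cs
  have : Fintype CoxeterMatrix.E₇.Group := Fintype.ofFinite _
  obtain ⟨k, _, _, f, r, _, _, n, hk, hka, hn0, hn⟩ := exists_closure F
  have hemb := emb_injective e7T.inList f
  have key : ∀ {ℓ' m' : ℕ} (_ : ℓ'.Prime) (_ : od (Nat.card F) ℓ' = m') (_ : m' = 7 ∨ m' = 9 ∨ m' = 14 ∨ m' = 18)
      {y' : ↥(chevE7.group F)} (_ : orderOf y' = ℓ'),
      ∃ z g : ↥(chevE7.group k), ∃ w : CoxeterMatrix.E₇.Group, Rp cs (nsysL e7T cs hk r) w g ∧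
      (∃ v : Fin 7 → ℤ, v ≠ 0 ∧ Polynomial.aeval (rep cs e7T.isCartan w) (Polynomial.cyclotomic m' ℤ) v = 0) ∧
      ∀ y : ↥(chevE7.group k), (phi chevE7 k r n y = y ∧ y * emb e7T.inList f y' = emb e7T.inList f y' * y) →
        z⁻¹ * y * z ∈ TwT chevE7 k r n g := by
    intro ℓ' m' hℓ' h' hm' y' hy'
    have hm0 : 0 < m' := by omega
    have hℓr : ℓ' ≠ r := by
      rintro rfl
      apply not_dvd_q hℓ' h' hm0
      rw [hn]
      exact dvd_pow_self _ hn0.ne'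
    have hxℓ : y' ^ ℓ' = 1 := by rw [← hy']; exact pow_orderOf_eq_one y'
    have hx1 : y' ≠ 1 := by
      rintro rfl
      rw [orderOf_one] at hy'
      exact hℓ'.one_lt.ne hy'
    obtain ⟨z, g, w, hg, -, ⟨χ, hE⟩, hC⟩ := centralizer_of_reg e7T cs hk r hka (n := n)
      (x := emb e7T.inList f y') (phi_emb' e7T f r hn y') hℓ' hℓr (by rw [← map_pow, hxℓ, map_one])
      (fun h => hx1 (hemb (h.trans (map_one _).symm))) (not_dvd_card cs hℓ' h' hm')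
      (fun w χ hE a ha => reg_E7 cs hℓ' h' hm' k w χ (hn ▸ hE) a ha)
    refine ⟨z, g, w, hg, ?_, fun y hy => (hC y).1 hy⟩
    exact ker_of_eig e7T cs hℓ' (not_dvd_card cs hℓ' h' hm') h' hm0 (hn ▸ hE)
  obtain ⟨z₁, g₁, w₁, hg₁, ⟨v₁, hv₁, hv₁'⟩, hC₁⟩ := key hℓ₁ h₁ (by tauto) hy
  obtain ⟨z₂, g₂, w₂, hg₂, ⟨v₂, hv₂, hv₂'⟩, hC₂⟩ := key hℓ₂ h₂ (by tauto) hz
  obtain ⟨u, hu⟩ : ∃ u, u = emb e7T.inList f x := ⟨_, rfl⟩
  have huf : phi chevE7 k r n u = u := by rw [hu]; exact phi_emb' e7T f r hn x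
  have ht₁ := hC₁ u ⟨huf, by rw [hu, ← map_mul, ← map_mul, hxy]⟩
  have ht₂ := hC₂ u ⟨huf, by rw [hu, ← map_mul, ← map_mul, hxz]⟩
  obtain ⟨t₁, et₁⟩ : ∃ t₁, t₁ = z₁⁻¹ * u * z₁ := ⟨_, rfl⟩
  obtain ⟨t₂, et₂⟩ : ∃ t₂, t₂ = z₂⁻¹ * u * z₂ := ⟨_, rfl⟩
  rw [← et₁] at ht₁
  rw [← et₂] at ht₂
  obtain ⟨m, -, w, g, hg, hgs, -⟩ := exists_form' e7T cs hk r ht₂.1 ht₁.1 (c := z₁⁻¹ * z₂) (by rw [et₁, et₂]; group)
  -- the characters
  have hK₁ := (mem_TwT_iff e7T cs r hk hg₁ ht₁.1).1 ht₁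
  have hK₂ := (mem_TwT_iff e7T cs r hk hg₂ ht₂.1).1 ht₂
  have hgt : g * t₂ * g⁻¹ = t₁ := by rw [hgs]; group
  have hgm : g * t₂ * g⁻¹ ∈ TT chevE7 k := by rw [hgt]; exact ht₁.1
  have hconj := fun x => tchar_conj e7T cs hk r hg ht₂.1 hgm x
  have e1 : (⟨g * t₂ * g⁻¹, hgm⟩ : ↥(TT chevE7 k)) = ⟨t₁, ht₁.1⟩ := Subtype.ext hgt
  rw [e1] at hconj
  obtain ⟨χ, hχ⟩ : ∃ χ, χ = tchar e7T ⟨t₁, ht₁.1⟩ := ⟨_, rfl⟩
  obtain ⟨χ₂, hχ₂⟩ : ∃ χ, χ = tchar e7T ⟨t₂, ht₂.1⟩ := ⟨_, rfl⟩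
  rw [← hχ] at hK₁ hconj
  rw [← hχ₂] at hK₂ hconj
  have c₁ := fun x => chi_w hK₁ x
  have c₂ := fun x => chi_w hK₂ x
  have huℓ : u ^ ℓ = 1 := by rw [hu, ← map_pow, ← hx, pow_orderOf_eq_one, map_one]
  have htℓ : t₁ ^ ℓ = 1 := by
    have h1 := conj_pow (a := z₁⁻¹) (b := u) (i := ℓ)
    rw [inv_inv] at h1
    rw [et₁, h1, huℓ]; group
  have hχℓ : χ ^ ℓ = 1 := by rw [hχ]; exact tchar_pow_eq_one e7T ht₁.1 htℓ
  have hχ1 : χ ≠ 1 := by
    intro h1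
    rw [hχ] at h1
    have h2 := tchar_injective e7T (h1.trans (map_one (tchar e7T)).symm)
    have h3 : t₁ = 1 := congrArg (fun z : ↥(TT chevE7 k) => z.1) h2
    have h4 : u = 1 := by
      have : u = z₁ * t₁ * z₁⁻¹ := by rw [et₁]; group
      rw [this, h3]; group
    have h5 : x = 1 := hemb ((hu.symm.trans h4).trans (map_one _).symm)
    rw [h5, orderOf_one] at hx
    exact hℓ.one_lt.ne hx
  have hpow : ∀ x, χ x ^ (((r ^ n : ℕ) : ℤ)) = χ x ^ ε := by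
    intro x
    rw [hn] at hd
    obtain ⟨c, hc⟩ := hd
    have e : ((r ^ n : ℕ) : ℤ) = ε + ℓ * c := by linarith
    have h3 : χ x ^ ℓ = 1 := by rw [← MonoidHom.pow_apply, hχℓ, MonoidHom.one_apply]
    rw [e, zpow_add, zpow_mul, zpow_natCast, h3, one_zpow, mul_one]
  refine no_common cs hχ1 hε (w := w₁) (w' := w * w₂ * w⁻¹) (fun x => by rw [c₁, hpow]) (fun x => ?_)
    (m := m₁) (m' := m₂) (y := v₁) (y' := rep cs e7T.isCartan w v₂) hm₁ hm₂ hv₁ ?_ hv₁' ?_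
  · rw [rep_mul_apply, rep_mul_apply, hconj, c₂, ← hpow]
    congr 1
    rw [← hconj, rep_apply_inv]
  · intro h0
    apply hv₂
    have := congrArg (rep cs e7T.isCartan w⁻¹) h0
    rwa [rep_inv_apply, map_zero] at this
  · rw [aeval_conj (T := rep cs e7T.isCartan w₂) (S := rep cs e7T.isCartan w), hv₂', map_zero]
    intro x
    rw [rep_mul_apply, rep_mul_apply, rep_inv_apply]

/-! ### arithmetic of the orders of the tori -/

theorem tv_mul {q : ℕ} (hq : 2 ≤ q) (i : Fin 4) : Nat.gcd 2 (q - 1) * tv q i = Nv q i := by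
  refine Nat.mul_div_cancel' ?_
  have h1 : Nat.gcd 2 (q - 1) ∣ q - 1 := Nat.gcd_dvd_right _ _
  have h2 : Nat.gcd 2 (q - 1) ∣ q + 1 := by
    have : q + 1 = (q - 1) + 2 := by omega
    rw [this]
    exact dvd_add h1 (Nat.gcd_dvd_left _ _)
  have h3 : (q - 1) ∣ q ^ 7 - 1 := by simpa using Nat.sub_dvd_pow_sub_pow q 1 7
  have h4 : (q + 1) ∣ q ^ 7 + 1 := by simpa using Odd.nat_add_dvd_pow_add_pow q 1 (n := 7) (by decide)
  fin_cases i
  · exact h1.trans h3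
  · exact h1.trans (dvd_mul_right _ _)
  · exact h2.trans h4
  · exact h2.trans (dvd_mul_right _ _)

/-- the sign -/
def sg : Fin 4 → ℤ := ![1, 1, -1, -1]

/-- the degree -/
def dg : Fin 4 → ℕ := ![7, 9, 7, 9]

theorem Nv_sg {q : ℕ} (hq : 2 ≤ q) (i : Fin 4) : (Nv q i : ℤ) = ((q : ℤ) - sg i) * Ph q i := by
  rw [Nv_cast (by omega)]
  fin_cases i
  · rfl
  · rfl
  · show ((q : ℤ) + 1) * _ = ((q : ℤ) - (-1)) * _
    rw [sub_neg_eq_add]
  · show ((q : ℤ) + 1) * _ = ((q : ℤ) - (-1)) * _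
    rw [sub_neg_eq_add]

theorem Nv_dvd {q : ℕ} (hq : 2 ≤ q) (i : Fin 4) : (Nv q i : ℤ) ∣ (q : ℤ) ^ dg i - sg i := by
  rw [Nv_sg hq]
  fin_cases i
  · exact ⟨1, by simp only [Ph, sg, dg, Fin.zero_eta, Matrix.cons_val_zero]; ring⟩
  · refine ⟨(q : ℤ) ^ 2 + q + 1, ?_⟩
    show (q : ℤ) ^ 9 - 1 = ((q : ℤ) - 1) * (1 + (q : ℤ) ^ 3 + (q : ℤ) ^ 6) * _
    ring
  · refine ⟨1, ?_⟩
    show (q : ℤ) ^ 7 - (-1) = ((q : ℤ) - (-1)) *
      (1 - (q : ℤ) + (q : ℤ) ^ 2 - (q : ℤ) ^ 3 + (q : ℤ) ^ 4 - (q : ℤ) ^ 5 + (q : ℤ) ^ 6) * _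
    ring
  · refine ⟨(q : ℤ) ^ 2 - q + 1, ?_⟩
    show (q : ℤ) ^ 9 - (-1) = ((q : ℤ) - (-1)) * (1 - (q : ℤ) ^ 3 + (q : ℤ) ^ 6) * _
    ring

theorem Ph_odd {q : ℕ} (hq : Odd q) (i : Fin 4) : Odd (Ph q i) := by
  have h : Odd (q : ℤ) := by exact_mod_cast hq
  have h' := fun n : ℕ => h.pow (n := n)
  fin_cases i
  · show Odd (1 + (q : ℤ) + (q : ℤ) ^ 2 + (q : ℤ) ^ 3 + (q : ℤ) ^ 4 + (q : ℤ) ^ 5 + (q : ℤ) ^ 6)
    exact (((((odd_one.add_odd h).add_odd (h' 2)).add_odd (h' 3)).add_odd (h' 4)).add_odd (h' 5)).add_odd (h' 6)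
  · show Odd (1 + (q : ℤ) ^ 3 + (q : ℤ) ^ 6)
    exact (odd_one.add_odd (h' 3)).add_odd (h' 6)
  · show Odd (1 - (q : ℤ) + (q : ℤ) ^ 2 - (q : ℤ) ^ 3 + (q : ℤ) ^ 4 - (q : ℤ) ^ 5 + (q : ℤ) ^ 6)
    exact (((((odd_one.sub_odd h).add_odd (h' 2)).sub_odd (h' 3)).add_odd (h' 4)).sub_odd (h' 5)).add_odd (h' 6)
  · show Odd (1 - (q : ℤ) ^ 3 + (q : ℤ) ^ 6)
    exact (odd_one.sub_odd (h' 3)).add_odd (h' 6)

/-- the sign is determined by a common prime divisor -/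
theorem sg_eq {q ℓ : ℕ} (hq : 2 ≤ q) (hℓ : ℓ.Prime) {i j : Fin 4} (hi : ℓ ∣ tv q i) (hj : ℓ ∣ tv q j) :
    sg i = sg j := by
  have hN : ∀ i, ℓ ∣ tv q i → (ℓ : ℤ) ∣ (q : ℤ) ^ dg i - sg i := by
    intro i hi
    refine (Int.natCast_dvd_natCast.2 ?_).trans (Nv_dvd hq i)
    rw [← tv_mul hq]
    exact hi.mul_left _
  have h63 : ∀ i, ℓ ∣ tv q i → (ℓ : ℤ) ∣ (q : ℤ) ^ 63 - sg i := by
    intro i hi
    refine (hN i hi).trans ?_
    fin_cases i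
    · refine (sub_dvd_pow_sub_pow ((q : ℤ) ^ 7) 1 9).trans (dvd_of_eq ?_)
      show ((q : ℤ) ^ 7) ^ 9 - 1 ^ 9 = (q : ℤ) ^ 63 - 1
      ring
    · refine (sub_dvd_pow_sub_pow ((q : ℤ) ^ 9) 1 7).trans (dvd_of_eq ?_)
      show ((q : ℤ) ^ 9) ^ 7 - 1 ^ 7 = (q : ℤ) ^ 63 - 1
      ring
    · refine (sub_dvd_pow_sub_pow ((q : ℤ) ^ 7) (-1) 9).trans (dvd_of_eq ?_)
      show ((q : ℤ) ^ 7) ^ 9 - (-1) ^ 9 = (q : ℤ) ^ 63 - (-1)
      ring
    · refine (sub_dvd_pow_sub_pow ((q : ℤ) ^ 9) (-1) 7).trans (dvd_of_eq ?_)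
      show ((q : ℤ) ^ 9) ^ 7 - (-1) ^ 7 = (q : ℤ) ^ 63 - (-1)
      ring
  have hsg : ∀ i, sg i = 1 ∨ sg i = -1 := by
    intro i
    fin_cases i
    · exact Or.inl rfl
    · exact Or.inl rfl
    · exact Or.inr rfl
    · exact Or.inr rfl
  by_contra hne
  have h2 : (ℓ : ℤ) ∣ sg i - sg j := by
    have := dvd_sub (h63 j hj) (h63 i hi)
    rwa [sub_sub_sub_cancel_left] at this
  have hℓ2 : ℓ = 2 := by
    have h3 : (ℓ : ℤ) ∣ 2 := by
      rcases hsg i with h | h <;> rcases hsg j with h' | h' <;> rw [h, h'] at h2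
      · exact absurd (h.trans h'.symm) hne
      · exact h2
      · rw [← Int.dvd_neg]; exact h2
      · exact absurd (h.trans h'.symm) hne
    have h4 : ℓ ∣ 2 := by exact_mod_cast h3
    exact (Nat.prime_dvd_prime_iff_eq hℓ Nat.prime_two).1 h4
  subst hℓ2
  have hodd : Odd q := by
    rcases Nat.even_or_odd q with he | ho
    · exfalso
      have h3 := h63 i hi
      have h4 : (2 : ℤ) ∣ (q : ℤ) ^ 63 := dvd_pow (by exact_mod_cast he.two_dvd) (by norm_num)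
      have h5 : (2 : ℤ) ∣ sg i := by
        have := dvd_sub h4 h3
        rwa [sub_sub_cancel] at this
      rcases hsg i with h | h <;> rw [h] at h5 <;> omega
    · exact ho
  have hg : Nat.gcd 2 (q - 1) = 2 := by
    rw [Nat.gcd_eq_left]
    obtain ⟨m, hm⟩ := hodd
    exact ⟨m, by omega⟩
  have h4 : ∀ i, 2 ∣ tv q i → (4 : ℤ) ∣ (q : ℤ) - sg i := by
    intro i hi
    have h5 := tv_mul hq i
    rw [hg] at h5
    obtain ⟨c, hc⟩ := hi
    have h6 : (Nv q i : ℤ) = 4 * c := by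
      rw [← h5, hc]; push_cast; ring
    rw [Nv_sg hq] at h6
    have h7 : IsCoprime (4 : ℤ) (Ph q i) := by
      have h8 : IsCoprime (2 : ℤ) (Ph q i) := by
        obtain ⟨n, hn⟩ := Ph_odd hodd i
        exact ⟨-n, 1, by rw [hn]; ring⟩
      have : (4 : ℤ) = 2 * 2 := by norm_num
      rw [this]
      exact h8.mul_left h8
    exact h7.dvd_of_dvd_mul_right ⟨c, h6⟩
  have h5 := h4 i hi
  have h6 := h4 j hj
  rcases hsg i with h | h <;> rcases hsg j with h' | h' <;> rw [h] at h5 <;> rw [h'] at h6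
  · exact hne (h.trans h'.symm)
  · omega
  · omega
  · exact hne (h.trans h'.symm)

/-- a common prime divisor of two tori divides `q ∓ 1` -/
theorem dvd_sub_sg {q ℓ : ℕ} (hq : 2 ≤ q) (hℓ : ℓ.Prime) {i j : Fin 4} (hij : i ≠ j) (hi : ℓ ∣ tv q i)
    (hj : ℓ ∣ tv q j) : (ℓ : ℤ) ∣ (q : ℤ) - sg i := by
  have hs := sg_eq hq hℓ hi hj
  have hN : ∀ i, ℓ ∣ tv q i → (ℓ : ℤ) ∣ (q : ℤ) ^ dg i - sg i := by
    intro i hi
    refine (Int.natCast_dvd_natCast.2 ?_).trans (Nv_dvd hq i)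
    rw [← tv_mul hq]
    exact hi.mul_left _
  have h1 := hN i hi
  have h2 := hN j hj
  rw [← hs] at h2
  have key : ∀ e : ℤ, e * e = 1 → (ℓ : ℤ) ∣ (q : ℤ) ^ 7 - e → (ℓ : ℤ) ∣ (q : ℤ) ^ 9 - e → (ℓ : ℤ) ∣ (q : ℤ) - e := by
    intro e he h7 h9
    -- `q ^ 2 ≡ 1`
    have h3 : (ℓ : ℤ) ∣ e * ((q : ℤ) ^ 2 - 1) := by
      have := dvd_sub (h7.mul_left ((q : ℤ) ^ 2)) h9
      have e2 : (q : ℤ) ^ 2 * ((q : ℤ) ^ 7 - e) - ((q : ℤ) ^ 9 - e) = -(e * ((q : ℤ) ^ 2 - 1)) := by ring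
      rw [e2, Int.dvd_neg] at this
      exact this
    have h4 : (ℓ : ℤ) ∣ (q : ℤ) ^ 2 - 1 := by
      have := h3.mul_left e
      rwa [← mul_assoc, he, one_mul] at this
    have e3 : (q : ℤ) - e = ((q : ℤ) ^ 7 - e) - ((q : ℤ) ^ 2 - 1) * (q * ((q : ℤ) ^ 4 + (q : ℤ) ^ 2 + 1)) := by ring
    rw [e3]
    exact dvd_sub h7 (h4.mul_right _)
  have hse : sg i * sg i = 1 := by
    fin_cases i
    · rfl
    · rfl
    · show (-1 : ℤ) * (-1) = 1; norm_num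
    · show (-1 : ℤ) * (-1) = 1; norm_num
  have hdg : (dg i = 7 ∧ dg j = 9) ∨ (dg i = 9 ∧ dg j = 7) := by
    revert hij hs
    clear * -
    revert i j
    decide
  rcases hdg with ⟨h3, h4⟩ | ⟨h3, h4⟩
  · rw [h3] at h1; rw [h4] at h2
    exact key _ hse h1 h2
  · rw [h3] at h1; rw [h4] at h2
    exact key _ hse h2 h1

/-- **E7(q)**: an element commuting with elements of two types is trivial -/
theorem one_type_E7 {F : Type u} [Field F] [Fintype F] {q : ℕ} (hq : Fintype.card F = q) {i j : Fin 4} (hij : i ≠ j)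
    {r s : ℕ} (hr : r.Prime) (hs : s.Prime) (hor : od q r = ov i) (hos : od q s = ov j)
    {x y z : ↥(chevE7.group F)} (hy : orderOf y = r) (hz : orderOf z = s) (hxy : x * y = y * x)
    (hxz : x * z = z * x) : x = 1 := by
  by_contra hx1
  have hq2 : 2 ≤ q := by rw [← hq]; exact Fintype.one_lt_card
  have hqN : Nat.card F = q := by rw [Nat.card_eq_fintype_card, hq]
  have hx0 : orderOf x ≠ 1 := fun h => hx1 (orderOf_eq_one_iff.1 h)
  obtain ⟨ℓ, hℓ, hℓx⟩ := Nat.exists_prime_and_dvd hx0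
  obtain ⟨x', hx'⟩ : ∃ x', x' = x ^ (orderOf x / ℓ) := ⟨_, rfl⟩
  have hox : orderOf x' = ℓ := by
    rw [hx']
    exact orderOf_pow_orderOf_div (orderOf_pos x).ne' hℓx
  have hc : ∀ y, x * y = y * x → x' * y = y * x' := by
    intro y h
    rw [hx']
    exact (Commute.pow_left (h : Commute x y) _)
  -- the orders
  have hdv : ∀ (i : Fin 4) (r : ℕ), r.Prime → od q r = ov i → ∀ y, orderOf y = r → x' * y = y * x' →
      ℓ ∣ tv q i := by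
    intro i r hr hor y hy hc
    obtain ⟨T, h1, h2, h3⟩ := exists_T hq i
    have h4 := fun y hy hyr => h3 r hr hor y hy hyr
    have hrT : r ∣ Nat.card ↥T := by
      rw [h2]
      have h5 := r_dvd_Nv (show 1 ≤ q by omega) hr hor
      rw [← tv_mul hq2] at h5
      rcases hr.dvd_mul.1 h5 with h6 | h6
      · have h7 := Nat.le_of_dvd two_pos (h6.trans (Nat.gcd_dvd_left _ _))
        have := r_ge hr hor
        omega
      · exact h6
    have hC := (cent_of_torus h1 hr hrT h4 hy).1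
    rw [← h2, ← hC, ← hox]
    have hmem : x' ∈ Subgroup.centralizer ({y} : Set _) := Subgroup.mem_centralizer_singleton_iff.2 hc
    rw [← Subgroup.orderOf_mk x' hmem]
    exact orderOf_dvd_natCard _
  have hi := hdv i r hr hor y hy (hc y hxy)
  have hj := hdv j s hs hos z hz (hc z hxz)
  have h1 := dvd_sub_sg hq2 hℓ hij hi hj
  have h2 := sg_eq hq2 hℓ hi hj
  have hse : sg i * sg i = 1 := by
    fin_cases i
    · rfl
    · rfl
    · show (-1 : ℤ) * (-1) = 1; norm_num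
    · show (-1 : ℤ) * (-1) = 1; norm_num
  rw [← hqN] at h1 hor hos
  have hov : ((ov i = 7 ∨ ov i = 14) ∧ (ov j = 9 ∨ ov j = 18)) ∨ ((ov i = 9 ∨ ov i = 18) ∧ (ov j = 7 ∨ ov j = 14)) := by
    revert hij h2
    clear * -
    revert i j
    decide
  rcases hov with ⟨h3, h4⟩ | ⟨h3, h4⟩
  · exact no_comm hse hℓ h1 hr hs hor hos h3 h4 hox hy hz (hc y hxy) (hc z hxz)
  · exact no_comm hse hℓ h1 hs hr hos hor h4 h3 hox hz hy (hc z hxz) (hc y hxy)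

end Cfsg.Agent.H137.TC7
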